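import Cfsg.Agent.Lib.Lie.Solub.Counts

/-!
The solvable subgroups through an element, and the solubiliser of a semisimple element.
-/

set_option autoImplicit false
set_option linter.unusedSectionVars false

namespace Cfsg.Agent.Lie.Solub

open scoped Pointwise
open Finset Cfsg.Agent.Dickson

variable {X : Type*} [Group X] [Fintype X] {p : ℕ}

/-- A subgroup with abelian normal part containing the commutators is solvable. -/
theorem isSolvable_of_comm (H A : Subgroup X) (hA : ∀ a ∈ A, ∀ b ∈ A, a * b = b * a)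
    (hc : ∀ g ∈ H, ∀ h ∈ H, g * h * g⁻¹ * h⁻¹ ∈ A) : Group.IsSolvable H := by
  haveI : IsMulCommutative (A.subgroupOf H) := ⟨⟨fun a b => Subtype.ext (Subtype.ext (hA _ a.2 _ b.2))⟩⟩
  haveI hn : (A.subgroupOf H).Normal := ⟨fun a ha g => by
    have h := mul_mem (hc _ g.2 _ a.2) (show (a : X) ∈ A from ha)
    show (g : X) * a * (g : X)⁻¹ ∈ A
    rwa [inv_mul_cancel_right] at h⟩
  haveI : IsMulCommutative (H ⧸ A.subgroupOf H) := ⟨⟨fun a b => by
    induction a using QuotientGroup.induction_on with | H g => ?_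
    induction b using QuotientGroup.induction_on with | H h => ?_
    rw [← QuotientGroup.mk_mul, ← QuotientGroup.mk_mul, QuotientGroup.eq]
    show (((g * h)⁻¹ * (h * g) : H) : X) ∈ A
    have := hc _ (inv_mem h.2) _ (inv_mem g.2)
    rwa [inv_inv, inv_inv, show (h : X)⁻¹ * (g : X)⁻¹ * h * g =
      (((g * h)⁻¹ * (h * g) : H) : X) by simp [mul_assoc]] at this⟩⟩
  haveI : Group.IsSolvable (A.subgroupOf H) := Group.isSolvable_of_comm fun a b => mul_comm' a b
  haveI : Group.IsSolvable (H ⧸ A.subgroupOf H) := Group.isSolvable_of_comm fun a b => mul_comm' a b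
  refine Group.isSolvable_of_ker_le_range (A.subgroupOf H).subtype (QuotientGroup.mk' (A.subgroupOf H)) ?_
  rw [QuotientGroup.ker_mk', Subgroup.range_subtype]

/-- The solubiliser. -/
noncomputable def sol (x : X) : Finset X :=
  letI := _root_.Classical.decPred fun y : X => Group.IsSolvable ↥(Subgroup.closure ({x, y} : Set X))
  univ.filter fun y => Group.IsSolvable ↥(Subgroup.closure ({x, y} : Set X))

theorem mem_sol {x y : X} : y ∈ sol x ↔ Group.IsSolvable ↥(Subgroup.closure ({x, y} : Set X)) := by simp [sol]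

theorem card_sol (x : X) :
    Nat.card {y : X // Group.IsSolvable ↥(Subgroup.closure ({x, y} : Set X))} = (sol x).card := by
  rw [← Nat.card_eq_finsetCard]
  exact Nat.card_congr (Equiv.subtypeEquivRight fun y => mem_sol.symm)

theorem mem_sol_of_le {x y : X} (H : Subgroup X) (hH : Group.IsSolvable H) (hx : x ∈ H) (hy : y ∈ H) : y ∈ sol x := by
  have hle : Subgroup.closure ({x, y} : Set X) ≤ H :=
    (Subgroup.closure_le _).2 (by rintro w (rfl | rfl) <;> assumption)
  exact mem_sol.2 (Group.isSolvable_of_isSolvable_injective (f := Subgroup.inclusion hle) (Subgroup.inclusion_injective hle))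

/-- The elements of a subgroup as a finset. -/
noncomputable def els (H : Subgroup X) : Finset X :=
  letI := _root_.Classical.decPred fun y : X => y ∈ H
  univ.filter fun y => y ∈ H

theorem mem_els {H : Subgroup X} {y : X} : y ∈ els H ↔ y ∈ H := by simp [els]

theorem card_els (H : Subgroup X) : (els H).card = Nat.card H := by
  rw [← Nat.card_eq_finsetCard]
  exact Nat.card_congr (Equiv.subtypeEquivRight fun y => mem_els)

/-- The setup with the solvable subgroups known: in a torus or Borel normaliser, or of order twelve. -/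
structure Setup' (D : Data X p) (q u v δ : ℕ) : Prop extends Setup D q u v δ where
  hsolv : ∀ H : Subgroup X, Group.IsSolvable H → H ≠ ⊥ →
    (∃ a : X, a ≠ 1 ∧ H ≤ Subgroup.normalizer (D.T a : Set X)) ∨
    (δ = 2 ∧ p = 3 ∧ Nat.card H = 12 ∧ ∃ V : Subgroup X, V ≤ H ∧ Nat.card V = 4 ∧ (∀ w ∈ V, w * w = 1) ∧
      H ≤ Subgroup.normalizer (V : Set X))

variable {D : Data X p} {q u v δ : ℕ}

/-- An element of the normaliser outside the torus inverts it. -/
theorem flip_facts {a g : X} (ha : a ≠ 1) (hap : a ^ p ≠ 1) (hg : g ∈ Subgroup.normalizer (D.T a : Set X))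
    (hn : g ∉ D.T a) : g * g = 1 ∧ ∀ b ∈ D.T a, g * b * g⁻¹ = b⁻¹ :=
  D.semi_flip ha hap ((D.mem_normalizer_iff ha).1 hg) hn

theorem mul_flip_mem {a g h : X} (ha : a ≠ 1) (hap : a ^ p ≠ 1) (hg : g ∈ Subgroup.normalizer (D.T a : Set X))
    (hn : g ∉ D.T a) (hh : h ∈ Subgroup.normalizer (D.T a : Set X)) (hn' : h ∉ D.T a) : g * h ∈ D.T a :=
  D.semi_mul ha hap ((D.mem_normalizer_iff ha).1 hg) hn ((D.mem_normalizer_iff ha).1 hh) hn'

theorem isSolvable_normalizer {a : X} (ha : a ≠ 1) :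
    Group.IsSolvable (Subgroup.normalizer (D.T a : Set X)) := by
  refine isSolvable_of_comm _ (D.T a) (fun x hx y hy => (D.comm ha hx hy).eq) fun g hg h hh => ?_
  by_cases hap : a ^ p = 1
  · exact D.borel_comm ha hap ((D.mem_normalizer_iff ha).1 hg) ((D.mem_normalizer_iff ha).1 hh)
  by_cases hgT : g ∈ D.T a
  · rw [show g * h * g⁻¹ * h⁻¹ = g * (h * g⁻¹ * h⁻¹) by group]
    exact mul_mem hgT ((Subgroup.mem_normalizer_iff.1 hh _).1 (inv_mem hgT))
  by_cases hhT : h ∈ D.T a
  · exact mul_mem ((Subgroup.mem_normalizer_iff.1 hg _).1 hhT) (inv_mem hhT)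
  rw [show g * h * g⁻¹ * h⁻¹ = g * h * (h * g)⁻¹ by group]
  exact mul_mem (mul_flip_mem ha hap hg hgT hh hhT) (inv_mem (mul_flip_mem ha hap hh hhT hg hgT))

variable (C : Setup' D q u v δ)
include C

theorem mem_sol_cases {x y : X} (hx : x ≠ 1) (hy : y ∈ sol x) :
    (∃ a : X, a ≠ 1 ∧ x ∈ Subgroup.normalizer (D.T a : Set X) ∧ y ∈ Subgroup.normalizer (D.T a : Set X)) ∨
    (δ = 2 ∧ p = 3 ∧ ∃ V : Subgroup X, Nat.card V = 4 ∧ (∀ w ∈ V, w * w = 1) ∧
      x ∈ Subgroup.normalizer (V : Set X) ∧ y ∈ Subgroup.normalizer (V : Set X) ∧ orderOf x ∣ 6) := by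
  set H := Subgroup.closure ({x, y} : Set X) with hH
  have hxH : x ∈ H := Subgroup.subset_closure (by simp)
  have hyH : y ∈ H := Subgroup.subset_closure (by simp)
  have hne : H ≠ ⊥ := fun h => hx (Subgroup.mem_bot.1 (h ▸ hxH))
  rcases C.hsolv H (mem_sol.1 hy) hne with ⟨a, ha, hle⟩ | ⟨hδ, hp3, hc, V, hVH, hV, hV2, hle⟩
  · exact Or.inl ⟨a, ha, hle hxH, hle hyH⟩
  refine Or.inr ⟨hδ, hp3, V, hV, hV2, hle hxH, hle hyH, ?_⟩
  have hidx : (V.subgroupOf H).index = 3 := by
    have h := Subgroup.card_mul_index (V.subgroupOf H)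
    rw [Nat.card_congr (Subgroup.subgroupOfEquivOfLe hVH).toEquiv, hV, hc] at h
    omega
  haveI : (V.subgroupOf H).Normal := Subgroup.normal_subgroupOf_of_le_normalizer hle
  have h := (Subgroup.pow_index_mem (V.subgroupOf H) (⟨x, hxH⟩ : H))
  rw [hidx] at h
  have h2 := hV2 _ (show x ^ 3 ∈ V from h)
  exact orderOf_dvd_of_pow_eq_one (by rw [show 6 = 3 + 3 from rfl, pow_add]; exact h2)

theorem not_six {t : ℕ} (ht : t = u ∨ t = v) (hp3 : p = 3) {x : X} (hd : orderOf x ∣ t) (hx2 : x * x ≠ 1)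
    (h6 : orderOf x ∣ 6) : False := by
  obtain ⟨b, hb, hbp⟩ := C.exU
  have h3q : 3 ∣ q := by
    haveI : Fact p.Prime := ⟨C.hp⟩
    have h := Subgroup.orderOf_dvd_natCard _ (D.self b)
    rw [orderOf_eq_prime hbp hb, (C.card_uni hb hbp).1] at h
    exact hp3 ▸ h
  have hc : Nat.Coprime (orderOf x) 3 := Nat.Coprime.coprime_dvd_left hd
    (Nat.Coprime.coprime_dvd_right h3q (coprime_q C.toSetup ht).symm)
  have h2 : orderOf x ∣ 2 := hc.dvd_of_dvd_mul_right (show orderOf x ∣ 2 * 3 from h6)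
  exact hx2 (by rw [← pow_two]; exact orderOf_dvd_iff_pow_eq_one.1 h2)

/-- The Borel tori. -/
noncomputable def bors (D : Data X p) : Finset (Subgroup X) :=
  letI := _root_.Classical.decEq (Subgroup X)
  letI := _root_.Classical.decPred fun a : X => a ≠ 1 ∧ a ^ p = 1
  (univ.filter fun a : X => a ≠ 1 ∧ a ^ p = 1).image D.T

omit C in
theorem mem_bors {S : Subgroup X} : S ∈ bors D ↔ ∃ a, a ≠ 1 ∧ a ^ p = 1 ∧ D.T a = S := by
  simp [bors, and_assoc]

theorem card_bors : (bors D).card = q + 1 := by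
  classical
  have h := card_unipotent C.toSetup
  rw [Nat.card_eq_fintype_card, Fintype.card_subtype,
    Finset.card_eq_sum_card_fiberwise (f := D.T) (t := bors D) fun x hx => by
      obtain ⟨-, h1, h2⟩ := mem_filter.1 hx
      exact mem_bors.2 ⟨x, h1, h2, rfl⟩] at h
  rw [sum_congr rfl fun S hS => show _ = q - 1 by
    obtain ⟨a, ha, hap, rfl⟩ := mem_bors.1 hS
    rw [show ((univ.filter fun x : X => x ≠ 1 ∧ x ^ p = 1).filter fun x => D.T x = D.T a) = (els (D.T a)).erase 1
      from ?_, card_erase_of_mem (mem_els.2 (one_mem _)), card_els, (C.card_uni ha hap).1]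
    ext x
    simp only [mem_filter, mem_univ, true_and, mem_erase, mem_els]
    exact ⟨fun h => ⟨h.1.1, h.2 ▸ D.self x⟩,
      fun h => ⟨⟨h.1, D.uni_exp ha hap h.2⟩, D.same ha h.2 h.1⟩⟩, sum_const, smul_eq_mul] at h
  have hq := one_lt_q C.toSetup
  refine Nat.eq_of_mul_eq_mul_right (show 0 < q - 1 by omega) (h.trans ?_)
  rw [Nat.mul_sub_one, add_mul, one_mul]
  omega

/-- The Borel tori normalised by an element. -/
noncomputable def borsAt (D : Data X p) (x : X) : Finset (Subgroup X) :=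
  letI := _root_.Classical.decPred fun S : Subgroup X => x ∈ Subgroup.normalizer (S : Set X)
  (bors D).filter fun S => x ∈ Subgroup.normalizer (S : Set X)

omit C in
theorem mem_borsAt {x : X} {S : Subgroup X} :
    S ∈ borsAt D x ↔ S ∈ bors D ∧ x ∈ Subgroup.normalizer (S : Set X) := by simp [borsAt]

theorem borsAt_const {x y : X} (hx : x ≠ 1) (hxp : x ^ p ≠ 1) (hy : y ≠ 1) (hyp : y ^ p ≠ 1)
    (hxu : Nat.card (D.T x) = u) (hyu : Nat.card (D.T y) = u) : (borsAt D x).card = (borsAt D y).card := by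
  classical
  obtain ⟨g, hg⟩ := exists_conj_tori C.toSetup (Or.inl rfl) (mem_tori.2 ⟨x, hx, hxp, hxu, rfl⟩)
    (mem_tori.2 ⟨y, hy, hyp, hyu, rfl⟩)
  have hT : ∀ {a c d : X}, c ≠ 1 → c ^ p ≠ 1 → a ≠ 1 → a ^ p = 1 → d ∈ D.T c →
      c ∈ Subgroup.normalizer (D.T a : Set X) → d ∈ Subgroup.normalizer (D.T a : Set X) :=
    fun _ hcp ha hap hd hc => (D.mem_normalizer_iff ha).2 (D.borel_torus ha hap hcp ((D.mem_normalizer_iff ha).1 hc) hd)
  refine Finset.card_bij (fun S _ => MulAut.conj g • S) (fun S hS => ?_) (fun S _ R _ h => smul_left_cancel _ h)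
    fun R hR => ?_
  · obtain ⟨hS, hxS⟩ := mem_borsAt.1 hS
    obtain ⟨a, ha, hap, rfl⟩ := mem_bors.1 hS
    refine mem_borsAt.2 ⟨mem_bors.2 ⟨g * a * g⁻¹, fun e => ha (conj_eq_one_iff.1 e),
      by rw [conj_pow, hap, mul_one, mul_inv_cancel], D.T_conj g ha⟩, ?_⟩
    rw [← D.T_conj g ha]
    refine (D.mem_normalizer_iff (fun e => ha (conj_eq_one_iff.1 e))).2 ?_
    have hy' : g⁻¹ * y * g ∈ D.T x := by
      have : y ∈ MulAut.conj g • D.T x := hg ▸ D.self y
      rw [Subgroup.mem_smul_pointwise_iff_exists] at this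
      obtain ⟨z, hz, rfl⟩ := this
      simpa [MulAut.smul_def, mul_assoc] using hz
    have h1 := D.conj g ha ((D.mem_normalizer_iff ha).1 (hT hx hxp ha hap hy' hxS))
    rwa [show g * (g⁻¹ * y * g * a * (g⁻¹ * y * g)⁻¹) * g⁻¹ = y * (g * a * g⁻¹) * y⁻¹ by group] at h1
  · obtain ⟨hR, hyR⟩ := mem_borsAt.1 hR
    obtain ⟨b, hb, hbp, rfl⟩ := mem_bors.1 hR
    refine ⟨D.T (g⁻¹ * b * g), mem_borsAt.2 ⟨mem_bors.2 ⟨_, ?_, ?_, rfl⟩, ?_⟩, ?_⟩
    · intro e
      exact hb (conj_eq_one_iff.1 (show g⁻¹ * b * g⁻¹⁻¹ = 1 by rwa [inv_inv]))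
    · rw [show g⁻¹ * b * g = g⁻¹ * b * g⁻¹⁻¹ by rw [inv_inv], conj_pow, hbp, mul_one, mul_inv_cancel]
    · refine (D.mem_normalizer_iff (fun e => hb ?_)).2 ?_
      · exact conj_eq_one_iff.1 (show g⁻¹ * b * g⁻¹⁻¹ = 1 by rwa [inv_inv])
      have hgx : g * x * g⁻¹ ∈ D.T y := by
        rw [← hg]
        exact Subgroup.smul_mem_pointwise_smul x (MulAut.conj g) (D.T x) (D.self x)
      have h1 := D.conj g⁻¹ hb ((D.mem_normalizer_iff hb).1 (hT hy hyp hb hbp hgx hyR))
      rw [inv_inv] at h1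
      rwa [show g⁻¹ * (g * x * g⁻¹ * b * (g * x * g⁻¹)⁻¹) * g = x * (g⁻¹ * b * g) * x⁻¹ by group] at h1
    · show MulAut.conj g • D.T (g⁻¹ * b * g) = D.T b
      rw [← D.T_conj g (fun e => hb (conj_eq_one_iff.1 (show g⁻¹ * b * g⁻¹⁻¹ = 1 by rwa [inv_inv])))]
      congr 1
      group

/-- A split torus lies in two Borel subgroups. -/
theorem card_borsAt {x : X} (hx : x ≠ 1) (hxp : x ^ p ≠ 1) (hxu : Nat.card (D.T x) = u) :
    (borsAt D x).card = 2 := by
  classical
  set E := univ.filter fun y : X => y ≠ 1 ∧ y ^ p ≠ 1 ∧ Nat.card (D.T y) = u with hE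
  have hsum : ∑ y ∈ E, (borsAt D y).card = E.card * (borsAt D x).card := by
    rw [sum_congr rfl fun y hy => by
      obtain ⟨-, h1, h2, h3⟩ := mem_filter.1 hy
      exact borsAt_const C h1 h2 hx hxp h3 hxu, sum_const, smul_eq_mul]
  have hEc : E.card = (tori D u).card * (u - 1) := by
    rw [Finset.card_eq_sum_card_fiberwise (f := D.T) (t := tori D u) fun y hy => by
      obtain ⟨-, h1, h2, h3⟩ := mem_filter.1 hy
      exact mem_tori.2 ⟨y, h1, h2, h3, rfl⟩]
    rw [sum_congr rfl fun S hS => show _ = u - 1 by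
      obtain ⟨a, ha, hap, hau, rfl⟩ := mem_tori.1 hS
      rw [show (E.filter fun y => D.T y = D.T a) = (els (D.T a)).erase 1 from ?_,
        card_erase_of_mem (mem_els.2 (one_mem _)), card_els, hau]
      ext y
      simp only [E, mem_filter, mem_univ, true_and, mem_erase, mem_els]
      exact ⟨fun h => ⟨h.1.1, h.2 ▸ D.self y⟩,
        fun h => ⟨⟨h.1, D.semi_of_ne ha hap h.2 h.1, by rw [D.same ha h.2 h.1]; exact hau⟩, D.same ha h.2 h.1⟩⟩,
      sum_const, smul_eq_mul]
  have hswap : ∑ y ∈ E, (borsAt D y).card = (q + 1) * (q * u - q) := by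
    simp only [borsAt, card_filter]
    rw [Finset.sum_comm, ← card_bors C, sum_congr rfl fun S hS => show _ = q * u - q by
      obtain ⟨a, ha, hap, rfl⟩ := mem_bors.1 hS
      rw [← card_filter]
      obtain ⟨hc1, hc2⟩ := C.card_uni ha hap
      rw [
        show (E.filter fun y => y ∈ Subgroup.normalizer (D.T a : Set X)) =
          els (Subgroup.normalizer (D.T a : Set X)) \ els (D.T a) from ?_,
        card_sdiff_of_subset fun y hy => mem_els.2 (Subgroup.le_normalizer (mem_els.1 hy)), card_els, card_els, hc1, hc2]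
      ext y
      simp only [E, mem_filter, mem_univ, true_and, mem_sdiff, mem_els]
      constructor
      · rintro ⟨⟨h1, h2, -⟩, h4⟩
        exact ⟨h4, fun h => h2 (D.uni_exp ha hap h)⟩
      · rintro ⟨h4, h5⟩
        have h1 : y ≠ 1 := fun e => h5 (e ▸ one_mem _)
        have h2 : y ^ p ≠ 1 := fun e => h5 (mem_tor_of_mem_borel C.toSetup ha hap h4 e)
        exact ⟨⟨h1, h2, card_tor_of_dvd C.toSetup (Or.inl rfl) h1 h2 (orderOf_semi_borel C.toSetup ha hap h4 h1 h2)⟩, h4⟩,
      sum_const, smul_eq_mul]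
  rw [hsum, hEc] at hswap
  have hn := card_tori C.toSetup (Or.inl rfl : u = u ∨ u = v)
  have h2n : 2 * (tori D u).card = q * (q + 1) := by
    refine Nat.eq_of_mul_eq_mul_right (show 0 < u from by have := C.hu2; omega) ?_
    rw [← C.hv]
    linear_combination hn
  have hu := C.hu2
  obtain ⟨u', rfl⟩ : ∃ u', u = u' + 1 := ⟨u - 1, by omega⟩
  rw [Nat.add_sub_cancel, show q * (u' + 1) - q = q * u' by rw [mul_add, mul_one, Nat.add_sub_cancel]] at hswap
  have hq := one_lt_q C.toSetup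
  refine Nat.eq_of_mul_eq_mul_left (show 0 < q * (q + 1) * u' from by
    have : 0 < u' := by omega
    positivity) ?_
  linear_combination 2 * hswap - u' * (borsAt D x).card * h2n

/-- The solubiliser of a split semisimple element. -/
theorem sol_split {x : X} (hx : x ≠ 1) (hd : orderOf x ∣ u) (hx2 : x * x ≠ 1) : (sol x).card = 2 * q * u := by
  classical
  have hxp := semi_of_order C.toSetup (Or.inl rfl) hx hd
  have hxu := card_tor_of_dvd C.toSetup (Or.inl rfl) hx hxp hd
  obtain ⟨S1, S2, hne, h12⟩ := card_eq_two.1 (card_borsAt C hx hxp hxu)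
  obtain ⟨h1, hx1⟩ := mem_borsAt.1 (show S1 ∈ borsAt D x by simp [h12])
  obtain ⟨h2, hx2'⟩ := mem_borsAt.1 (show S2 ∈ borsAt D x by simp [h12])
  obtain ⟨a1, ha1, hap1, rfl⟩ := mem_bors.1 h1
  obtain ⟨a2, ha2, hap2, rfl⟩ := mem_bors.1 h2
  set B1 := els (Subgroup.normalizer (D.T a1 : Set X))
  set B2 := els (Subgroup.normalizer (D.T a2 : Set X))
  set N := els (Subgroup.normalizer (D.T x : Set X))
  have hT : ∀ {a : X}, a ≠ 1 → a ^ p = 1 → x ∈ Subgroup.normalizer (D.T a : Set X) →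
      els (D.T x) ⊆ els (Subgroup.normalizer (D.T a : Set X)) := fun ha hap hxa y hy => mem_els.2
    ((D.mem_normalizer_iff ha).2 (D.borel_torus ha hap hxp ((D.mem_normalizer_iff ha).1 hxa) (mem_els.1 hy)))
  have hsol : sol x = B1 ∪ B2 ∪ N := by
    ext y
    simp only [mem_union, B1, B2, N, mem_els]
    constructor
    · intro hy
      rcases mem_sol_cases C hx hy with ⟨a, ha, hxa, hya⟩ | ⟨-, hp3, -, -, -, -, -, h6⟩
      · by_cases hap : a ^ p = 1
        · have hmem : D.T a ∈ borsAt D x := mem_borsAt.2 ⟨mem_bors.2 ⟨a, ha, hap, rfl⟩, hxa⟩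
          rw [h12, mem_insert, mem_singleton] at hmem
          rcases hmem with e | e <;> rw [e] at hya
          · exact Or.inl (Or.inl hya)
          · exact Or.inl (Or.inr hya)
        · by_cases hxT : x ∈ D.T a
          · rw [← D.same ha hxT hx] at hya
            exact Or.inr hya
          · exact absurd (flip_facts ha hap hxa hxT).1 hx2
      · exact absurd h6 fun h => not_six C (Or.inl rfl) hp3 hd hx2 h
    · rintro ((hy | hy) | hy)
      · exact mem_sol_of_le _ (isSolvable_normalizer ha1) hx1 hy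
      · exact mem_sol_of_le _ (isSolvable_normalizer ha2) hx2' hy
      · exact mem_sol_of_le _ (isSolvable_normalizer hx) (Subgroup.le_normalizer (D.self x)) hy
  have hB12 : B1 ∩ B2 = els (D.T x) := by
    refine (eq_of_subset_of_card_le (subset_inter (hT ha1 hap1 hx1) (hT ha2 hap2 hx2')) ?_).symm
    set K := Subgroup.normalizer (D.T a1 : Set X) ⊓ Subgroup.normalizer (D.T a2 : Set X)
    rw [show B1 ∩ B2 = els K from by ext y; simp [B1, B2, K, mem_els], card_els, card_els, hxu]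
    have hbot : D.T a1 ⊓ K = ⊥ := by
      rw [Subgroup.eq_bot_iff_forall]
      rintro y ⟨hy, -, hy2⟩
      by_contra hy1
      exact hne (borel_eq C.toSetup ha1 hap1 ha2 hap2 hy1 (D.uni_exp ha1 hap1 hy) (Subgroup.le_normalizer hy) hy2)
    have hinj : Function.Injective (fun z : D.T a1 × K => (⟨z.1.1 * z.2.1,
        mul_mem (Subgroup.le_normalizer z.1.2) z.2.2.1⟩ : Subgroup.normalizer (D.T a1 : Set X))) := by
      rintro ⟨a, k⟩ ⟨a', k'⟩ h
      have h' : (a : X) * k = a' * k' := congrArg Subtype.val h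
      have hm : (a' : X)⁻¹ * a ∈ D.T a1 ⊓ K := ⟨(D.T a1).mul_mem ((D.T a1).inv_mem a'.2) a.2, by
        rw [show (a' : X)⁻¹ * a = k' * (k : X)⁻¹ by
          rw [eq_mul_inv_iff_mul_eq, mul_assoc, h', inv_mul_cancel_left]]
        exact K.mul_mem k'.2 (K.inv_mem k.2)⟩
      rw [hbot, Subgroup.mem_bot, inv_mul_eq_one] at hm
      exact Prod.ext (Subtype.ext hm.symm) (Subtype.ext (mul_left_cancel (hm.symm ▸ h' : (a : X) * k = a * k')))
    have hle := Nat.card_le_card_of_injective _ hinj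
    rw [Nat.card_prod, (C.card_uni ha1 hap1).1, (C.card_uni ha1 hap1).2] at hle
    exact Nat.le_of_mul_le_mul_left hle (by have := one_lt_q C.toSetup; omega)
  have hNB : ∀ {a : X}, a ≠ 1 → a ^ p = 1 → x ∈ Subgroup.normalizer (D.T a : Set X) →
      els (Subgroup.normalizer (D.T a : Set X)) ∩ N = els (D.T x) := by
    intro a ha hap hxa
    refine Finset.Subset.antisymm (fun y hy => ?_)
      (subset_inter (hT ha hap hxa) fun y hy => mem_els.2 (Subgroup.le_normalizer (mem_els.1 hy)))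
    simp only [mem_inter, N, mem_els] at hy
    refine mem_els.2 ?_
    by_contra hyT
    obtain ⟨hyy, hinv⟩ := flip_facts hx hxp hy.2 hyT
    have h3 : y * x * y⁻¹ * x⁻¹ ∈ D.T a :=
      D.borel_comm ha hap ((D.mem_normalizer_iff ha).1 hy.1) ((D.mem_normalizer_iff ha).1 hxa)
    rw [hinv x (D.self x), ← mul_inv_rev] at h3
    have h4 := D.uni_exp ha hap h3
    rw [inv_pow, inv_eq_one] at h4
    exact D.semi_of_ne hx hxp (mul_mem (D.self x) (D.self x)) hx2 h4
  rw [hsol]
  have e1 := card_union_add_card_inter (B1 ∪ B2) N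
  have e2 := card_union_add_card_inter B1 B2
  rw [union_inter_distrib_right, hNB ha1 hap1 hx1, hNB ha2 hap2 hx2', union_self, card_els, hxu, show N.card = 2 * u by
    rw [card_els, (C.card_semi hx hxp).2, hxu]] at e1
  rw [hB12, card_els, hxu, show B1.card = q * u by rw [card_els, (C.card_uni ha1 hap1).2],
    show B2.card = q * u by rw [card_els, (C.card_uni ha2 hap2).2]] at e2
  have : 2 * q * u = q * u + q * u := by ring
  omega

/-- The solubiliser of a non-split semisimple element. -/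
theorem sol_nonsplit {x : X} (hx : x ≠ 1) (hd : orderOf x ∣ v) (hx2 : x * x ≠ 1) : (sol x).card = 2 * v := by
  classical
  have hxp := semi_of_order C.toSetup (Or.inr rfl) hx hd
  have hxv := card_tor_of_dvd C.toSetup (Or.inr rfl) hx hxp hd
  rw [show sol x = els (Subgroup.normalizer (D.T x : Set X)) from ?_, card_els, (C.card_semi hx hxp).2, hxv]
  ext y
  rw [mem_els]
  refine ⟨fun hy => ?_, fun hy => mem_sol_of_le _ (isSolvable_normalizer hx) (Subgroup.le_normalizer (D.self x)) hy⟩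
  rcases mem_sol_cases C hx hy with ⟨a, ha, hxa, hya⟩ | ⟨-, hp3, -, -, -, -, -, h6⟩
  · by_cases hap : a ^ p = 1
    · exact absurd (card_tor_of_dvd C.toSetup (Or.inl rfl) hx hxp
        (orderOf_semi_borel C.toSetup ha hap hxa hx hxp)) (by rw [hxv]; exact (u_ne_v C.toSetup).symm)
    · by_cases hxT : x ∈ D.T a
      · rwa [← D.same ha hxT hx] at hya
      · exact absurd (flip_facts ha hap hxa hxT).1 hx2
  · exact absurd h6 fun h => not_six C (Or.inr rfl) hp3 hd hx2 h

end Cfsg.Agent.Lie.Solub
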