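import Cfsg.Agent.Lib.Classical.DicksonClasses

/-!
Tori, Borel subgroups and involutions of a group with the partition of `PSL(2, q)`, counted.
-/

set_option autoImplicit false
set_option linter.unusedSectionVars false

namespace Cfsg.Agent.Lie.Solub

open scoped Pointwise
open Finset Cfsg.Agent.Dickson

variable {X : Type*} [Group X] [Fintype X] {p : ℕ}

/-- A group with the partition, the orders of `PSL(2, q)` and both tori. -/
structure Setup (D : Data X p) (q u v δ : ℕ) : Prop where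
  hp : p.Prime
  hδ : δ = 1 ∨ δ = 2
  hu : q = δ * u + 1
  hv : δ * v = q + 1
  hu2 : 2 ≤ u
  hv2 : 2 ≤ v
  hcop : Nat.Coprime u v
  card : Nat.card X = δ * (q * (u * v))
  card_uni : ∀ {a : X}, a ≠ 1 → a ^ p = 1 → Nat.card (D.T a) = q ∧
    Nat.card (Subgroup.normalizer (D.T a : Set X)) = q * u
  card_semi : ∀ {a : X}, a ≠ 1 → a ^ p ≠ 1 → (Nat.card (D.T a) = u ∨ Nat.card (D.T a) = v) ∧
    Nat.card (Subgroup.normalizer (D.T a : Set X)) = 2 * Nat.card (D.T a)
  exU : ∃ a : X, a ≠ 1 ∧ a ^ p = 1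
  exu : ∃ a : X, a ≠ 1 ∧ a ^ p ≠ 1 ∧ Nat.card (D.T a) = u
  exv : ∃ a : X, a ≠ 1 ∧ a ^ p ≠ 1 ∧ Nat.card (D.T a) = v

variable {D : Data X p} {q u v δ : ℕ}

/-- The semisimple tori of given order. -/
noncomputable def tori (D : Data X p) (t : ℕ) : Finset (Subgroup X) :=
  letI := _root_.Classical.decEq (Subgroup X)
  letI := _root_.Classical.decPred fun a : X => a ≠ 1 ∧ a ^ p ≠ 1 ∧ Nat.card (D.T a) = t
  (univ.filter fun a : X => a ≠ 1 ∧ a ^ p ≠ 1 ∧ Nat.card (D.T a) = t).image D.T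

theorem mem_tori {t : ℕ} {S : Subgroup X} :
    S ∈ tori D t ↔ ∃ a, a ≠ 1 ∧ a ^ p ≠ 1 ∧ Nat.card (D.T a) = t ∧ D.T a = S := by
  simp [tori, and_assoc]

theorem conj_mem {t : ℕ} {S : Subgroup X} (hS : S ∈ tori D t) (g : X) : MulAut.conj g • S ∈ tori D t := by
  obtain ⟨a, ha, hap, hc, rfl⟩ := mem_tori.1 hS
  refine mem_tori.2 ⟨g * a * g⁻¹, fun e => ha (conj_eq_one_iff.1 e),
    fun e => hap (conj_eq_one_iff.1 (conj_pow.symm.trans e)), ?_, D.T_conj g ha⟩
  rw [D.T_conj g ha, ← hc]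
  exact Subgroup.card_map_of_injective (MulAut.conj g).injective

theorem smul_eq_iff_mem {S : Subgroup X} {g : X} :
    MulAut.conj g • S = S ↔ g ∈ Subgroup.normalizer (S : Set X) := by
  rw [Subgroup.mem_normalizer_iff, SetLike.ext_iff]
  constructor
  · intro h x
    have := h (g * x * g⁻¹)
    rw [Subgroup.mem_smul_pointwise_iff_exists] at this
    constructor
    · intro hx; exact this.mp ⟨x, hx, rfl⟩
    · intro hx
      obtain ⟨y, hy, e⟩ := this.mpr hx
      have : y = x := (MulAut.conj g).injective e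
      rwa [this] at hy
  · intro h y
    rw [Subgroup.mem_smul_pointwise_iff_exists]
    constructor
    · rintro ⟨x, hx, rfl⟩; exact (h x).mp hx
    · intro hy
      exact ⟨g⁻¹ * y * g, (h _).mpr (by simpa [mul_assoc] using hy), by simp [MulAut.smul_def, mul_assoc]⟩

/-- The conjugates of a subgroup. -/
noncomputable def orb (S : Subgroup X) : Finset (Subgroup X) :=
  letI := _root_.Classical.decEq (Subgroup X)
  univ.image fun g : X => MulAut.conj g • S

theorem mem_orb {S R : Subgroup X} : R ∈ orb S ↔ ∃ g : X, MulAut.conj g • S = R := by simp [orb]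

theorem card_orb_mul (S : Subgroup X) :
    (orb S).card * Nat.card (Subgroup.normalizer (S : Set X)) = Nat.card X := by
  classical
  rw [Nat.card_eq_fintype_card (α := X), ← card_univ, Finset.card_eq_sum_card_fiberwise
    (f := fun g : X => MulAut.conj g • S) (t := orb S) fun g _ => mem_orb.2 ⟨g, rfl⟩]
  rw [sum_congr rfl fun R hR => show _ = Nat.card (Subgroup.normalizer (S : Set X)) by
    obtain ⟨g, rfl⟩ := mem_orb.1 hR
    rw [Nat.card_eq_fintype_card, ← Fintype.card_coe]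
    refine Fintype.card_congr
      { toFun := fun x => ⟨g⁻¹ * x.1, smul_eq_iff_mem.1 (by
          rw [map_mul, map_inv, mul_smul, (mem_filter.1 x.2).2, inv_smul_smul])⟩
        invFun := fun x => ⟨g * x.1, mem_filter.2 ⟨mem_univ _, by
          rw [map_mul, mul_smul, smul_eq_iff_mem.2 x.2]⟩⟩
        left_inv := fun x => by simp
        right_inv := fun x => by simp }, sum_const, smul_eq_mul]

theorem orb_subset_tori {t : ℕ} {S : Subgroup X} (hS : S ∈ tori D t) : orb S ⊆ tori D t := fun R hR => by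
  obtain ⟨g, rfl⟩ := mem_orb.1 hR
  exact conj_mem hS g

variable (C : Setup D q u v δ)
include C

theorem uv : δ * (u + v) = 2 * q := by rw [mul_add]; have := C.hu; have := C.hv; omega

theorem one_lt_q : 2 ≤ q := by
  rcases C.hδ with rfl | rfl <;> · have := C.hu; have := C.hu2; omega

theorem card_normalizer_tori {t : ℕ} {S : Subgroup X} (hS : S ∈ tori D t) :
    Nat.card (Subgroup.normalizer (S : Set X)) = 2 * t ∧ Nat.card S = t := by
  obtain ⟨a, ha, hap, hc, rfl⟩ := mem_tori.1 hS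
  exact ⟨by rw [(C.card_semi ha hap).2, hc], hc⟩

theorem u_ne_v : u ≠ v := fun h => by
  have := C.hcop
  rw [h, Nat.coprime_self] at this
  have := C.hv2
  omega

theorem sylow_facts : ∃ P : Sylow p X, Nat.card (P : Subgroup X) = q ∧
    Nat.card (Subgroup.normalizer ((P : Subgroup X) : Set X)) = q * u := by
  obtain ⟨a, ha, hap⟩ := C.exU
  obtain ⟨P, hP⟩ := D.exists_sylow C.hp ha hap
  exact ⟨P, by rw [hP]; exact (C.card_uni ha hap).1, by rw [hP]; exact (C.card_uni ha hap).2⟩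

theorem card_unipotent : Nat.card {x : X // x ≠ 1 ∧ x ^ p = 1} = q * q - 1 := by
  haveI : Fact p.Prime := ⟨C.hp⟩
  obtain ⟨P, hP, hN⟩ := sylow_facts C
  rw [D.card_uni C.hp P, hP, Sylow.card_eq_index_normalizer P]
  have h := Subgroup.card_mul_index (Subgroup.normalizer ((P : Subgroup X) : Set X))
  rw [hN, C.card] at h
  have hq := one_lt_q C
  have hu := C.hu2
  have e : (Subgroup.normalizer ((P : Subgroup X) : Set X)).index = δ * v := by
    refine Nat.eq_of_mul_eq_mul_left (show 0 < q * u by positivity) (h.trans ?_)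
    ring
  rw [show (Subgroup.normalizer (P : Set X)).index = δ * v from e, C.hv]
  have h2 : (q + 1) * (q - 1) = q * q - 1 := by
    rw [Nat.mul_sub_one, add_mul, one_mul]; omega
  exact h2

/-- There is one class of tori of each order. -/
theorem tori_facts : (∀ S ∈ tori D u, orb S = tori D u) ∧ (∀ S ∈ tori D v, orb S = tori D v) := by
  classical
  have hE : ∀ t, ∑ S ∈ tori D t, (Nat.card S - 1) = (tori D t).card * (t - 1) := fun t => by
    rw [sum_congr rfl fun S hS => by rw [(card_normalizer_tori C hS).2], sum_const, smul_eq_mul]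
  have hpart : Nat.card {x : X // x ≠ 1 ∧ x ^ p ≠ 1} =
      (tori D u).card * (u - 1) + (tori D v).card * (v - 1) := by
    have hdisj : Disjoint (tori D u) (tori D v) := by
      rw [Finset.disjoint_left]
      intro S h1 h2
      exact u_ne_v C ((card_normalizer_tori C h1).2.symm.trans (card_normalizer_tori C h2).2)
    rw [← hE, ← hE, ← sum_union hdisj, Nat.card_eq_fintype_card, Fintype.card_subtype,
      Finset.card_eq_sum_card_fiberwise (f := D.T) (t := tori D u ∪ tori D v) fun x hx => by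
        obtain ⟨-, h1, h2⟩ := mem_filter.1 hx
        rcases (C.card_semi h1 h2).1 with e | e
        · exact mem_union_left _ (mem_tori.2 ⟨x, h1, h2, e, rfl⟩)
        · exact mem_union_right _ (mem_tori.2 ⟨x, h1, h2, e, rfl⟩)]
    refine sum_congr rfl fun S hS => ?_
    obtain ⟨a, ha, hap, rfl⟩ : ∃ a, a ≠ 1 ∧ a ^ p ≠ 1 ∧ D.T a = S := by
      rcases mem_union.1 hS with h | h <;> obtain ⟨a, h1, h2, -, h4⟩ := mem_tori.1 h <;> exact ⟨a, h1, h2, h4⟩
    rw [show ((univ.filter fun x : X => x ≠ 1 ∧ x ^ p ≠ 1).filter fun x => D.T x = D.T a) =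
      (univ.filter fun x => x ∈ D.T a).erase 1 from ?_]
    · rw [card_erase_of_mem (by simp), Nat.card_eq_fintype_card, Fintype.card_subtype]
    ext x
    simp only [mem_filter, mem_univ, true_and, mem_erase]
    constructor
    · rintro ⟨⟨h1, -⟩, h3⟩
      exact ⟨h1, h3 ▸ D.self x⟩
    · rintro ⟨h1, h2⟩
      exact ⟨⟨h1, D.semi_of_ne ha hap h2 h1⟩, D.same ha h2 h1⟩
  have hsplit := Data.card_split (X := X) (p := p)
  rw [hpart, card_unipotent C, C.card] at hsplit
  obtain ⟨au, hau, haup, hau'⟩ := C.exu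
  obtain ⟨av, hav, havp, hav'⟩ := C.exv
  have hSu : D.T au ∈ tori D u := mem_tori.2 ⟨au, hau, haup, hau', rfl⟩
  have hSv : D.T av ∈ tori D v := mem_tori.2 ⟨av, hav, havp, hav', rfl⟩
  have key : ∀ S ∈ tori D u, ∀ R ∈ tori D v, orb S = tori D u ∧ orb R = tori D v := by
    intro S hS R hR
    have h1 := card_orb_mul S
    have h2 := card_orb_mul R
    rw [(card_normalizer_tori C hS).1, C.card] at h1
    rw [(card_normalizer_tori C hR).1, C.card] at h2
    have l1 := card_le_card (orb_subset_tori hS)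
    have l2 := card_le_card (orb_subset_tori hR)
    have hu := C.hu2
    have hv := C.hv2
    obtain ⟨u', rfl⟩ : ∃ u', u = u' + 1 := ⟨u - 1, by omega⟩
    obtain ⟨v', rfl⟩ : ∃ v', v = v' + 1 := ⟨v - 1, by omega⟩
    simp only [Nat.add_sub_cancel] at hsplit
    have hq2 : 1 ≤ q * q := Nat.one_le_iff_ne_zero.2 (by have := one_lt_q C; positivity)
    have hX1 : 1 ≤ δ * (q * ((u' + 1) * (v' + 1))) := by
      rw [← C.card]; exact Nat.card_pos
    have hid : (orb S).card * u' + (orb R).card * v' + q * q = δ * (q * ((u' + 1) * (v' + 1))) := by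
      have huv := uv C
      have h1' : 2 * (orb S).card = δ * q * (v' + 1) :=
        Nat.eq_of_mul_eq_mul_right (show 0 < u' + 1 by omega) (by linear_combination h1)
      have h2' : 2 * (orb R).card = δ * q * (u' + 1) :=
        Nat.eq_of_mul_eq_mul_right (show 0 < v' + 1 by omega) (by linear_combination h2)
      refine Nat.eq_of_mul_eq_mul_left (show 0 < 2 by norm_num) ?_
      linear_combination u' * h1' + v' * h2' - q * huv
    have e1 : (tori D (u' + 1)).card * u' ≤ (orb S).card * u' := by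
      have := Nat.mul_le_mul_right v' l2
      omega
    have e2 : (tori D (v' + 1)).card * v' ≤ (orb R).card * v' := by
      have := Nat.mul_le_mul_right u' l1
      omega
    exact ⟨eq_of_subset_of_card_le (orb_subset_tori hS) (Nat.le_of_mul_le_mul_right e1 (by omega)),
      eq_of_subset_of_card_le (orb_subset_tori hR) (Nat.le_of_mul_le_mul_right e2 (by omega))⟩
  exact ⟨fun S hS => (key S hS _ hSv).1, fun R hR => (key _ hSu R hR).2⟩

theorem exists_conj_tori {t : ℕ} (ht : t = u ∨ t = v) {S R : Subgroup X} (hS : S ∈ tori D t) (hR : R ∈ tori D t) :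
    ∃ g : X, MulAut.conj g • S = R := by
  rcases ht with rfl | rfl
  · exact mem_orb.1 ((tori_facts C).1 S hS ▸ hR)
  · exact mem_orb.1 ((tori_facts C).2 S hS ▸ hR)

theorem card_tori {t : ℕ} (ht : t = u ∨ t = v) : (tori D t).card * (2 * t) = δ * (q * (u * v)) := by
  obtain ⟨a, ha, hap, hc⟩ : ∃ a, a ≠ 1 ∧ a ^ p ≠ 1 ∧ Nat.card (D.T a) = t := by
    rcases ht with rfl | rfl
    · exact C.exu
    · exact C.exv
  have hS : D.T a ∈ tori D t := mem_tori.2 ⟨a, ha, hap, hc, rfl⟩
  have h := card_orb_mul (D.T a)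
  rw [(card_normalizer_tori C hS).1, C.card] at h
  rcases ht with rfl | rfl
  · rwa [(tori_facts C).1 _ hS] at h
  · rwa [(tori_facts C).2 _ hS] at h

/-! ### Elements of normalisers. -/

theorem mem_tor_of_mem_borel {a x : X} (ha : a ≠ 1) (hap : a ^ p = 1)
    (hx : x ∈ Subgroup.normalizer (D.T a : Set X)) (hxp : x ^ p = 1) : x ∈ D.T a := by
  haveI : Fact p.Prime := ⟨C.hp⟩
  obtain ⟨P, hP⟩ := D.exists_sylow C.hp ha hap
  rw [← hP] at hx ⊢
  have hz : IsPGroup p (Subgroup.zpowers x) := by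
    rintro ⟨y, hy⟩
    obtain ⟨k, rfl⟩ := Subgroup.mem_zpowers_iff.1 hy
    refine ⟨1, Subtype.ext ?_⟩
    show (x ^ k) ^ p ^ 1 = 1
    rw [pow_one, ← zpow_natCast, ← zpow_mul, mul_comm, zpow_mul, zpow_natCast, hxp, one_zpow]
  exact (P.is_maximal' (IsPGroup.to_sup_of_normal_right' hz P.isPGroup' (Subgroup.zpowers_le.mpr hx)) le_sup_right) ▸
    Subgroup.mem_sup_left (Subgroup.mem_zpowers _)

theorem borel_eq {a b x : X} (ha : a ≠ 1) (hap : a ^ p = 1) (hb : b ≠ 1) (hbp : b ^ p = 1) (hx : x ≠ 1)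
    (hxp : x ^ p = 1) (h1 : x ∈ Subgroup.normalizer (D.T a : Set X))
    (h2 : x ∈ Subgroup.normalizer (D.T b : Set X)) : D.T a = D.T b :=
  (D.same ha (mem_tor_of_mem_borel C ha hap h1 hxp) hx).symm.trans
    (D.same hb (mem_tor_of_mem_borel C hb hbp h2 hxp) hx)

theorem orderOf_semi_borel {a y : X} (ha : a ≠ 1) (hap : a ^ p = 1) (hy : y ∈ Subgroup.normalizer (D.T a : Set X))
    (hy1 : y ≠ 1) (hyp : y ^ p ≠ 1) : orderOf y ∣ u := by
  have h1 := Subgroup.orderOf_dvd_natCard _ hy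
  rw [(C.card_uni ha hap).2] at h1
  haveI : Fact p.Prime := ⟨C.hp⟩
  obtain ⟨k, hk⟩ := IsPGroup.iff_card.1 (D.isPGroup_T C.hp ha hap)
  rw [(C.card_uni ha hap).1] at hk
  have hcop : Nat.Coprime (orderOf y) q :=
    hk ▸ Nat.Coprime.pow_right k ((C.hp.coprime_iff_not_dvd.2 (D.semi_coprime hy1 hyp)).symm)
  exact hcop.dvd_of_dvd_mul_left h1

theorem card_tor_of_dvd {t : ℕ} (ht : t = u ∨ t = v) {x : X} (hx : x ≠ 1) (hxp : x ^ p ≠ 1)
    (hd : orderOf x ∣ t) : Nat.card (D.T x) = t := by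
  have hd' : orderOf x ∣ Nat.card (D.T x) := Subgroup.orderOf_dvd_natCard _ (D.self x)
  have key : ∀ {s}, Nat.card (D.T x) = s → Nat.Coprime s t → False := fun {s} hs hc => hx (orderOf_eq_one_iff.1
    (Nat.dvd_one.1 (hc ▸ Nat.dvd_gcd (hs ▸ hd') hd)))
  rcases (C.card_semi hx hxp).1 with h | h <;> rcases ht with rfl | rfl
  · exact h
  · exact (key h C.hcop).elim
  · exact (key h C.hcop.symm).elim
  · exact h

theorem coprime_q {t : ℕ} (ht : t = u ∨ t = v) : Nat.Coprime q t := by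
  obtain ⟨a, ha, hap, hc⟩ : ∃ a, a ≠ 1 ∧ a ^ p ≠ 1 ∧ Nat.card (D.T a) = t := by
    rcases ht with rfl | rfl
    · exact C.exu
    · exact C.exv
  haveI : Fact p.Prime := ⟨C.hp⟩
  obtain ⟨b, hb, hbp⟩ := C.exU
  obtain ⟨k, hk⟩ := IsPGroup.iff_card.1 (D.isPGroup_T C.hp hb hbp)
  rw [(C.card_uni hb hbp).1] at hk
  rw [hk, ← hc]
  exact Nat.Coprime.pow_left k (C.hp.coprime_iff_not_dvd.2 (D.not_dvd_card C.hp ha hap))

theorem semi_of_order {t : ℕ} (ht : t = u ∨ t = v) {x : X} (hx : x ≠ 1) (hd : orderOf x ∣ t) : x ^ p ≠ 1 := by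
  intro h
  haveI : Fact p.Prime := ⟨C.hp⟩
  have hd' : orderOf x ∣ q := (C.card_uni hx h).1 ▸ Subgroup.orderOf_dvd_natCard _ (D.self x)
  exact hx (orderOf_eq_one_iff.1 (Nat.dvd_one.1 (coprime_q C ht ▸ Nat.dvd_gcd hd' hd)))

end Cfsg.Agent.Lie.Solub
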