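import Cfsg.Agent.Lib.Lie.Solub.Flips

/-! The solubiliser of an involution in even characteristic. -/

set_option autoImplicit false
set_option linter.unusedSectionVars false

namespace Cfsg.Agent.Lie.Solub

open scoped Pointwise
open Finset Cfsg.Agent.Dickson

variable {X : Type*} [Group X] [Fintype X] {D : Data X 2} {q u v : ℕ} (C : Setup' D q u v 1)
include C

theorem even_invols : (invols X).card = u * v ∧
    ∀ x ∈ invols X, ∀ y ∈ invols X, ∃ g : X, g * x * g⁻¹ = y := by
  classical
  have hn : (invols X).card = u * v := by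
    have h := card_unipotent C.toSetup
    rw [Nat.card_eq_fintype_card, Fintype.card_subtype] at h
    rw [show invols X = univ.filter fun y : X => y ≠ 1 ∧ y ^ 2 = 1 by ext y; simp [mem_invols, pow_two], h]
    have := C.hu
    have := C.hv
    have h2 : q * q = u * v + 1 := by nlinarith
    omega
  refine ⟨hn, fun x hx y hy => ?_⟩
  obtain ⟨hx1, hxx⟩ := mem_invols.1 hx
  set K := univ.image fun g : X => g * x * g⁻¹ with hK
  have hsub : K ⊆ invols X := fun z hz => by
    obtain ⟨g, -, rfl⟩ := mem_image.1 hz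
    exact mem_invols.2 ⟨fun e => hx1 (conj_eq_one_iff.1 e), by
      rw [show g * x * g⁻¹ * (g * x * g⁻¹) = g * (x * x) * g⁻¹ by group, hxx, mul_one, mul_inv_cancel]⟩
  have hcard : (invols X).card ≤ K.card := by
    have h : (univ : Finset X).card ≤ K.card * q := by
      rw [Finset.card_eq_sum_card_fiberwise (f := fun g : X => g * x * g⁻¹) (t := K)
        fun g _ => mem_image.2 ⟨g, mem_univ g, rfl⟩]
      refine sum_le_card_nsmul _ _ q fun z hz => ?_
      obtain ⟨g, -, rfl⟩ := mem_image.1 hz
      rw [← (C.card_uni hx1 (by rw [pow_two]; exact hxx)).1, ← card_els]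
      refine Finset.card_le_card_of_injOn (fun h => g⁻¹ * h) (fun h hh => ?_) fun a _ b _ e => mul_left_cancel e
      refine mem_els.2 (D.uni_cent hx1 (by rw [pow_two]; exact hxx) ?_)
      have he : h * x * h⁻¹ = g * x * g⁻¹ := (mem_filter.1 hh).2
      show g⁻¹ * h * x = x * (g⁻¹ * h)
      calc g⁻¹ * h * x = g⁻¹ * (h * x * h⁻¹) * h := by group
        _ = g⁻¹ * (g * x * g⁻¹) * h := by rw [he]
        _ = x * (g⁻¹ * h) := by group
    rw [card_univ, ← Nat.card_eq_fintype_card, C.card, one_mul, ← hn, mul_comm q] at h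
    exact Nat.le_of_mul_le_mul_right h (by have := one_lt_q C.toSetup; omega)
  obtain ⟨g, -, hg⟩ := mem_image.1 ((eq_of_subset_of_card_le hsub hcard).symm ▸ hy)
  exact ⟨g, hg⟩

theorem even_flips {t : ℕ} (ht : t = u ∨ t = v) {x : X} (hx : x ∈ invols X) : 2 * (flips D t x).card = q := by
  have h := card_flips C.toSetup (t := t) fun y hy => (even_invols C).2 x hx y hy
  rw [(even_invols C).1] at h
  have h2 := card_tori C.toSetup ht
  have hu := C.hu2
  have hv := C.hv2
  refine Nat.eq_of_mul_eq_mul_left (show 0 < u * v by positivity) ?_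
  linear_combination 2 * h + h2

theorem sol_involution_even {x : X} (hx : x ∈ invols X) : (sol x).card = 3 * q * u := by
  classical
  obtain ⟨hx1, hxx⟩ := mem_invols.1 hx
  have hxp : x ^ 2 = 1 := by rw [pow_two]; exact hxx
  set B := els (Subgroup.normalizer (D.T x : Set X)) with hB
  set F : Finset (Subgroup X) := flips D u x ∪ flips D v x with hF
  set P : Subgroup X → Finset X := fun S => els (Subgroup.normalizer (S : Set X)) \ {1, x} with hP
  have huo : ¬ 2 ∣ u := by
    have h := Nat.Coprime.symm (coprime_q C.toSetup (Or.inl rfl : u = u ∨ u = v))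
    intro h2
    have hq2 : 2 ∣ q := by
      obtain ⟨h', -⟩ := C.card_uni hx1 hxp
      have := Subgroup.orderOf_dvd_natCard _ (D.self x)
      rwa [orderOf_eq_prime hxp hx1, h'] at this
    have := Nat.dvd_gcd h2 hq2
    rw [h] at this
    exact absurd this (by norm_num)
  have hvo : ¬ 2 ∣ v := by have := C.hu; have := C.hv; omega
  have hFm : ∀ {S}, S ∈ F → ∃ t, ¬ 2 ∣ t ∧ S ∈ flips D t x := fun hS => by
    rcases mem_union.1 hS with h | h
    · exact ⟨u, huo, h⟩
    · exact ⟨v, hvo, h⟩
  have hpair : ∀ {S}, S ∈ F → ({1, x} : Finset X) ⊆ els (Subgroup.normalizer (S : Set X)) := fun hS y hy => by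
    obtain ⟨t, -, h⟩ := hFm hS
    simp only [mem_insert, mem_singleton] at hy
    rcases hy with rfl | rfl
    · exact mem_els.2 (one_mem _)
    · exact mem_els.2 (mem_flips.1 h).2.1
  have hcomm : ∀ {S y}, S ∈ F → y ∈ Subgroup.normalizer (S : Set X) → x * y = y * x → y = 1 ∨ y = x := by
    intro S y hS hy hc
    obtain ⟨t, hto, h⟩ := hFm hS
    obtain ⟨h1, h2, h3⟩ := mem_flips.1 h
    obtain ⟨a, ha, hap, rfl, hca⟩ := mem_tori_self C.toSetup h1
    obtain ⟨z, hz, hzz, hy'⟩ := commuting_part ha hap h2 h3 hy hc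
    rw [eq_one_of_odd (by rw [hca]; exact hto) hz hzz, mul_one] at hy'
    exact hy'
  have hBP : ∀ {S y}, S ∈ F → y ∈ P S → y ∉ B := by
    intro S y hS hy hyB
    simp only [P, mem_sdiff, mem_els, mem_insert, mem_singleton, not_or] at hy
    rw [hB, mem_els] at hyB
    by_cases hyp : y ^ 2 = 1
    · rcases hcomm hS hy.1 (D.comm hx1 (D.self x) (mem_tor_of_mem_borel C.toSetup hx1 hxp hyB hyp)).eq with e | e
      · exact hy.2.1 e
      · exact hy.2.2 e
    · obtain ⟨t, hto, h⟩ := hFm hS
      obtain ⟨h1, h2, h3⟩ := mem_flips.1 h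
      obtain ⟨a, ha, hap, rfl, -⟩ := mem_tori_self C.toSetup h1
      have hyT : y ∈ D.T a := by_contra fun hn => hyp (by rw [pow_two]; exact (flip_facts ha hap hy.1 hn).1)
      have h5 : y * x * y⁻¹ * x⁻¹ ∈ D.T x :=
        D.borel_comm hx1 hxp ((D.mem_normalizer_iff hx1).1 hyB)
          ((D.mem_normalizer_iff hx1).1 (Subgroup.le_normalizer (D.self x)))
      rw [show y * x * y⁻¹ * x⁻¹ = y * (x * y⁻¹ * x⁻¹) by group, (flip_facts ha hap h2 h3).2 _ (inv_mem hyT),
        inv_inv] at h5
      have hyy1 : y * y ≠ 1 := fun e => hyp (by rw [pow_two]; exact e)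
      exact D.semi_of_ne ha hap (mul_mem hyT hyT) hyy1 (D.uni_exp hx1 hxp h5)
  have hsol : sol x = B ∪ F.biUnion P := by
    ext y
    simp only [mem_union, mem_biUnion]
    constructor
    · intro hy
      rcases mem_sol_cases C hx1 hy with ⟨a, ha, hxa, hya⟩ | ⟨h, -⟩
      · by_cases hap : a ^ 2 = 1
        · left
          rw [hB, mem_els, D.same ha (mem_tor_of_mem_borel C.toSetup ha hap hxa hxp) hx1]
          exact hya
        · have hxT : x ∉ D.T a := fun h => D.semi_of_ne ha hap h hx1 hxp
          rcases eq_or_ne y 1 with rfl | hy1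
          · left; exact mem_els.2 (one_mem _)
          rcases eq_or_ne y x with rfl | hyx
          · left; exact mem_els.2 (Subgroup.le_normalizer (D.self y))
          refine Or.inr ⟨D.T a, ?_, mem_sdiff.2 ⟨mem_els.2 hya, by simp [hy1, hyx]⟩⟩
          rcases (C.card_semi ha hap).1 with h | h
          · exact mem_union_left _ (mem_flips.2 ⟨mem_tori.2 ⟨a, ha, hap, h, rfl⟩, hxa, hxT⟩)
          · exact mem_union_right _ (mem_flips.2 ⟨mem_tori.2 ⟨a, ha, hap, h, rfl⟩, hxa, hxT⟩)
      · exact absurd h (by norm_num)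
    · rintro (hy | ⟨S, hS, hy⟩)
      · exact mem_sol_of_le _ (isSolvable_normalizer hx1) (Subgroup.le_normalizer (D.self x)) (mem_els.1 hy)
      · obtain ⟨t, -, h⟩ := hFm hS
        obtain ⟨h1, h2, -⟩ := mem_flips.1 h
        obtain ⟨a, ha, hap, rfl, -⟩ := mem_tori_self C.toSetup h1
        exact mem_sol_of_le _ (isSolvable_normalizer ha) h2 (mem_els.1 (mem_sdiff.1 hy).1)
  have hd1 : Disjoint B (F.biUnion P) := by
    rw [Finset.disjoint_left]
    intro y hy hy'
    obtain ⟨S, hS, hyS⟩ := mem_biUnion.1 hy'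
    exact hBP hS hyS hy
  have hd2 : Set.PairwiseDisjoint (F : Set (Subgroup X)) P := by
    intro S hS R hR hne
    rw [Function.onFun, Finset.disjoint_left]
    intro y hy hy'
    obtain ⟨s, -, hs⟩ := hFm hS
    obtain ⟨t, -, ht⟩ := hFm hR
    simp only [P, mem_sdiff, mem_els, mem_insert, mem_singleton, not_or] at hy hy'
    refine hne (eq_of_common C.toSetup hs ht hy.1 hy'.1 fun hc => ?_)
    rcases hcomm hS hy.1 hc with e | e
    · exact hy.2.1 e
    · exact hy.2.2 e
  have hFd : Disjoint (flips D u x) (flips D v x) := by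
    rw [Finset.disjoint_left]
    intro S h1 h2
    exact u_ne_v C.toSetup ((card_normalizer_tori C.toSetup (mem_flips.1 h1).1).2.symm.trans
      (card_normalizer_tori C.toSetup (mem_flips.1 h2).1).2)
  have hPc : ∀ t, flips D t x ⊆ F → ∑ S ∈ flips D t x, (P S).card = (flips D t x).card * (2 * t - 2) := fun t ht => by
    rw [sum_congr rfl fun S hS => show (P S).card = 2 * t - 2 by
      rw [show P S = els (Subgroup.normalizer (S : Set X)) \ {1, x} from rfl, card_sdiff_of_subset (hpair (ht hS)),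
        card_els, (card_normalizer_tori C.toSetup (mem_flips.1 hS).1).1, card_pair (Ne.symm hx1)], sum_const,
      smul_eq_mul]
  rw [hsol, card_union_of_disjoint hd1, card_biUnion hd2, hF, sum_union hFd, hPc u subset_union_left,
    hPc v subset_union_right, hB, card_els, (C.card_uni hx1 hxp).2]
  have e1 := even_flips C (Or.inl rfl : u = u ∨ u = v) hx
  have e2 := even_flips C (Or.inr rfl : v = u ∨ v = v) hx
  have hu := C.hu
  have hv := C.hv
  have hu2 := C.hu2
  obtain ⟨u', rfl⟩ : ∃ u', u = u' + 1 := ⟨u - 1, by omega⟩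
  obtain ⟨v', rfl⟩ : ∃ v', v = v' + 1 := ⟨v - 1, by omega⟩
  rw [show 2 * (u' + 1) - 2 = 2 * u' by omega, show 2 * (v' + 1) - 2 = 2 * v' by omega]
  have huv : u' + v' = 2 * u' + 2 := by omega
  linear_combination u' * e1 + v' * e2 + q * huv

end Cfsg.Agent.Lie.Solub
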