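import Cfsg.Agent.Lib.Lie.Solub.Basic

/-! Tori inverted by an involution, and the solubiliser of an involution in even characteristic. -/

set_option autoImplicit false
set_option linter.unusedSectionVars false

namespace Cfsg.Agent.Lie.Solub

open scoped Pointwise
open Finset Cfsg.Agent.Dickson

variable {X : Type*} [Group X] [Fintype X] {p : ℕ} {D : Data X p} {q u v δ : ℕ}

/-- The involutions. -/
noncomputable def invols (X : Type*) [Group X] [Fintype X] : Finset X :=
  letI := _root_.Classical.decPred fun y : X => y ≠ 1 ∧ y * y = 1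
  univ.filter fun y => y ≠ 1 ∧ y * y = 1

theorem mem_invols {y : X} : y ∈ invols X ↔ y ≠ 1 ∧ y * y = 1 := by simp [invols]

/-- The tori of order `t` inverted by an element from outside. -/
noncomputable def flips (D : Data X p) (t : ℕ) (x : X) : Finset (Subgroup X) :=
  letI := _root_.Classical.decPred fun S : Subgroup X => x ∈ Subgroup.normalizer (S : Set X) ∧ x ∉ S
  (tori D t).filter fun S => x ∈ Subgroup.normalizer (S : Set X) ∧ x ∉ S

theorem mem_flips {t : ℕ} {x : X} {S : Subgroup X} :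
    S ∈ flips D t x ↔ S ∈ tori D t ∧ x ∈ Subgroup.normalizer (S : Set X) ∧ x ∉ S := by simp [flips]

theorem mem_smul_conj {S : Subgroup X} {g x : X} : g * x * g⁻¹ ∈ MulAut.conj g • S ↔ x ∈ S :=
  Subgroup.smul_mem_pointwise_smul_iff (a := MulAut.conj g) (S := S) (x := x)

theorem mem_normalizer_smul {S : Subgroup X} {g x : X} :
    g * x * g⁻¹ ∈ Subgroup.normalizer ((MulAut.conj g • S : Subgroup X) : Set X) ↔
      x ∈ Subgroup.normalizer (S : Set X) := by
  rw [← smul_eq_iff_mem, ← smul_eq_iff_mem, ← mul_smul, ← map_mul, inv_mul_cancel_right, map_mul, mul_smul,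
    smul_left_cancel_iff]

theorem card_flips_conj (t : ℕ) (g x : X) : (flips D t (g * x * g⁻¹)).card = (flips D t x).card := by
  classical
  refine (Finset.card_bij (fun S _ => MulAut.conj g • S) (fun S hS => ?_) (fun S _ R _ h => smul_left_cancel _ h)
    fun R hR => ?_).symm
  · obtain ⟨h1, h2, h3⟩ := mem_flips.1 hS
    exact mem_flips.2 ⟨conj_mem h1 g, mem_normalizer_smul.2 h2, fun h => h3 (mem_smul_conj.1 h)⟩
  · obtain ⟨h1, h2, h3⟩ := mem_flips.1 hR
    have hR' : MulAut.conj g • (MulAut.conj g⁻¹ • R) = R := by rw [map_inv, smul_inv_smul]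
    rw [← hR'] at h2 h3
    exact ⟨_, mem_flips.2 ⟨conj_mem h1 g⁻¹, mem_normalizer_smul.1 h2, fun h => h3 (mem_smul_conj.2 h)⟩, hR'⟩

variable (C : Setup D q u v δ)
include C

theorem mem_tori_self {t : ℕ} {S : Subgroup X} (hS : S ∈ tori D t) :
    ∃ a, a ≠ 1 ∧ a ^ p ≠ 1 ∧ S = D.T a ∧ Nat.card (D.T a) = t := by
  obtain ⟨a, ha, hap, hc, rfl⟩ := mem_tori.1 hS
  exact ⟨a, ha, hap, rfl, hc⟩

/-- Double counting the flips. -/
theorem card_flips {t : ℕ} {x : X} (hx : ∀ y ∈ invols X, ∃ g : X, g * x * g⁻¹ = y) :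
    (invols X).card * (flips D t x).card = (tori D t).card * t := by
  classical
  have h1 : ∑ y ∈ invols X, (flips D t y).card = (invols X).card * (flips D t x).card := by
    rw [sum_congr rfl fun y hy => show _ = (flips D t x).card by
      obtain ⟨g, rfl⟩ := hx y hy
      exact card_flips_conj t g x, sum_const, smul_eq_mul]
  rw [← h1]
  have hfl : ∀ y : X, (flips D t y).card =
      ∑ S ∈ tori D t, if y ∈ Subgroup.normalizer (S : Set X) ∧ y ∉ S then 1 else 0 := fun y => by
    rw [← card_filter]; congr 1; ext S; simp [mem_flips]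
  simp only [hfl]
  rw [Finset.sum_comm, sum_congr rfl fun S hS => show _ = t by
    rw [← card_filter]
    obtain ⟨hN, hS'⟩ := card_normalizer_tori C hS
    obtain ⟨a, ha, hap, rfl, -⟩ := mem_tori_self C hS
    rw [show ((invols X).filter fun y => y ∈ Subgroup.normalizer (D.T a : Set X) ∧ y ∉ D.T a) =
      els (Subgroup.normalizer (D.T a : Set X)) \ els (D.T a) from ?_,
      card_sdiff_of_subset (fun y hy => mem_els.2 (Subgroup.le_normalizer (mem_els.1 hy))), card_els, card_els, hN, hS']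
    · omega
    ext y
    simp only [mem_filter, mem_sdiff, mem_els, mem_invols]
    exact ⟨fun h => h.2, fun h => ⟨⟨fun e => h.2 (e ▸ one_mem _), (flip_facts ha hap h.1 h.2).1⟩, h⟩⟩,
    sum_const, smul_eq_mul]

/-- Two normalisers through a common flip meet in what commutes with it. -/
theorem eq_of_common {s t : ℕ} {x y : X} {S R : Subgroup X} (hS : S ∈ flips D s x) (hR : R ∈ flips D t x)
    (hyS : y ∈ Subgroup.normalizer (S : Set X)) (hyR : y ∈ Subgroup.normalizer (R : Set X))
    (hxy : x * y ≠ y * x) : S = R := by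
  obtain ⟨hS1, hS2, hS3⟩ := mem_flips.1 hS
  obtain ⟨hR1, hR2, hR3⟩ := mem_flips.1 hR
  obtain ⟨a, ha, hap, rfl, -⟩ := mem_tori_self C hS1
  obtain ⟨b, hb, hbp, rfl, -⟩ := mem_tori_self C hR1
  obtain ⟨hxx, hinv⟩ := flip_facts ha hap hS2 hS3
  have key : ∀ z ∈ D.T a, z ∈ Subgroup.normalizer (D.T b : Set X) → z * z ≠ 1 → D.T a = D.T b := by
    intro z hz hzb hzz
    have hzb' : z ∈ D.T b := by_contra fun h => hzz (flip_facts hb hbp hzb h).1
    have hz1 : z ≠ 1 := fun e => hzz (by rw [e, one_mul])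
    exact (D.same ha hz hz1).symm.trans (D.same hb hzb' hz1)
  have comm_of : ∀ z ∈ D.T a, z * z = 1 → x * z = z * x := fun z hz hzz => by
    rw [← mul_inv_eq_iff_eq_mul, hinv z hz]
    exact inv_eq_of_mul_eq_one_right hzz
  by_cases hyT : y ∈ D.T a
  · exact key y hyT hyR fun h => hxy (comm_of y hyT h)
  · refine key (x * y) (mul_flip_mem ha hap hS2 hS3 hyS hyT) (mul_mem hR2 hyR) fun h => hxy ?_
    have hyy := (flip_facts ha hap hyS hyT).1
    have e := inv_eq_of_mul_eq_one_right h
    rw [mul_inv_rev, inv_eq_of_mul_eq_one_right hyy, inv_eq_of_mul_eq_one_right hxx] at e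
    exact e.symm

omit C

/-- The commuting part of a normaliser through a flip. -/
theorem commuting_part {a x y : X} (ha : a ≠ 1) (hap : a ^ p ≠ 1) (hx : x ∈ Subgroup.normalizer (D.T a : Set X))
    (hxn : x ∉ D.T a) (hy : y ∈ Subgroup.normalizer (D.T a : Set X)) (hc : x * y = y * x) :
    ∃ z ∈ D.T a, z * z = 1 ∧ (y = z ∨ y = x * z) := by
  obtain ⟨hxx, hinv⟩ := flip_facts ha hap hx hxn
  have sq : ∀ z ∈ D.T a, x * z = z * x → z * z = 1 := fun z hz hcz => by
    have h := hinv z hz
    rw [hcz, mul_inv_cancel_right] at h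
    exact mul_eq_one_iff_eq_inv.2 h
  by_cases hyT : y ∈ D.T a
  · exact ⟨y, hyT, sq y hyT hc, Or.inl rfl⟩
  · have hz := mul_flip_mem ha hap hx hxn hy hyT
    refine ⟨x * y, hz, sq _ hz ?_, Or.inr ?_⟩
    · rw [mul_assoc x y x, ← hc]
    · rw [← mul_assoc, hxx, one_mul]

theorem eq_one_of_odd {H : Subgroup X} (hodd : ¬ 2 ∣ Nat.card H) {z : X} (hz : z ∈ H) (hzz : z * z = 1) : z = 1 := by
  by_contra h1
  exact hodd (by
    have h := Subgroup.orderOf_dvd_natCard _ hz
    rwa [orderOf_eq_prime (by rw [pow_two]; exact hzz) h1] at h)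

end Cfsg.Agent.Lie.Solub
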