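import Cfsg.Agent.Lib.Lie.Solub.OddFours

/-! The solubilisers of an involution and of an element of order three in characteristic three. -/

set_option autoImplicit false
set_option linter.unusedSectionVars false

namespace Cfsg.Agent.Lie.Solub

open scoped Pointwise
open Finset Cfsg.Agent.Dickson

variable {X : Type*} [Group X] [Fintype X] {D : Data X 3} {q u v : ℕ} (C : Setup3 D q u v)
include C

theorem three_dvd_q : 3 ∣ q := by
  obtain ⟨b, hb, hbp⟩ := C.exU
  haveI : Fact (Nat.Prime 3) := ⟨Nat.prime_three⟩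
  have h := Subgroup.orderOf_dvd_natCard _ (D.self b)
  rwa [orderOf_eq_prime hbp hb, (C.card_uni hb hbp).1] at h

theorem isSolvable_normalizer_fours {V : Subgroup X} (hV : V ∈ fours X) :
    Group.IsSolvable (Subgroup.normalizer (V : Set X)) := by
  set N := Subgroup.normalizer (V : Set X) with hN
  refine isSolvable_of_comm _ V (fun a ha b hb => fours_comm hV ha hb) fun g hg h hh => ?_
  have hidx : (V.subgroupOf N).index = 3 := by
    have h := Subgroup.card_mul_index (V.subgroupOf N)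
    rw [Nat.card_congr (Subgroup.subgroupOfEquivOfLe Subgroup.le_normalizer).toEquiv, (mem_fours.1 hV).1,
      card_normalizer_fours C hV] at h
    omega
  haveI : (V.subgroupOf N).Normal := Subgroup.normal_subgroupOf_of_le_normalizer le_rfl
  haveI : Fact (Nat.Prime 3) := ⟨Nat.prime_three⟩
  haveI : IsCyclic (N ⧸ V.subgroupOf N) :=
    isCyclic_of_prime_card (p := 3) (by rw [← Subgroup.index_eq_card]; exact hidx)
  obtain ⟨c, hc⟩ := IsCyclic.exists_generator (α := N ⧸ V.subgroupOf N)
  obtain ⟨i, hi⟩ := Subgroup.mem_zpowers_iff.1 (hc (QuotientGroup.mk ⟨g, hg⟩))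
  obtain ⟨j, hj⟩ := Subgroup.mem_zpowers_iff.1 (hc (QuotientGroup.mk ⟨h, hh⟩))
  have he : QuotientGroup.mk' (V.subgroupOf N) (⟨g, hg⟩ * ⟨h, hh⟩ * (⟨g, hg⟩ : N)⁻¹ * (⟨h, hh⟩ : N)⁻¹) = 1 := by
    simp only [map_mul, map_inv, QuotientGroup.mk'_apply, ← hi, ← hj]
    group
  exact Subgroup.mem_subgroupOf.1 ((QuotientGroup.eq_one_iff _).1 he)

theorem sq_fours {V : Subgroup X} (hV : V ∈ fours X) {y : X} (hy : y ∈ Subgroup.normalizer (V : Set X))
    (hyy : y * y = 1) : y ∈ V := by
  by_contra h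
  obtain ⟨h3, h1, -⟩ := fours_facts C hV hy h
  exact three_ne h1 hyy h3

/-- The solubiliser of an involution. -/
theorem sol_involution_odd {x : X} (hx : x ∈ invols X) : (sol x).card = q * (q + 1) := by
  classical
  obtain ⟨hx1, hxx⟩ := mem_invols.1 hx
  have hxp := three_ne hx1 hxx
  set M := els (Subgroup.normalizer (D.T x : Set X)) with hM
  set F : Finset (Subgroup X) := flips D u x ∪ flips D v x with hF
  set P : Subgroup X → Finset X := fun S => els (Subgroup.normalizer (S : Set X)) \ M with hP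
  set Q : Subgroup X → Finset X := fun V => els (Subgroup.normalizer (V : Set X)) \ els V with hQ
  have hcopq : ∀ {t}, t = u ∨ t = v → ¬ 3 ∣ t := fun ht h =>
    Nat.not_coprime_of_dvd_of_dvd (by norm_num) (three_dvd_q C) h (coprime_q C.toSetup ht)
  have hFm : ∀ {S}, S ∈ F → ∃ t, (t = u ∨ t = v) ∧ S ∈ flips D t x := fun hS => by
    rcases mem_union.1 hS with h | h
    · exact ⟨u, Or.inl rfl, h⟩
    · exact ⟨v, Or.inr rfl, h⟩
  have hsol : sol x = M ∪ F.biUnion P ∪ (foursAt x).biUnion Q := by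
    ext y
    simp only [mem_union, mem_biUnion]
    constructor
    · intro hy
      by_cases hyM : y ∈ M
      · exact Or.inl (Or.inl hyM)
      rcases mem_sol_cases C.toSetup' hx1 hy with ⟨a, ha, hxa, hya⟩ | ⟨-, -, V, hV4, hV2, hxV, hyV, -⟩
      · by_cases hap : a ^ 3 = 1
        · exfalso
          have h := orderOf_semi_borel C.toSetup ha hap hxa hx1 hxp
          rw [orderOf_eq_prime (by rw [pow_two]; exact hxx) hx1] at h
          exact C.huo h
        · by_cases hxT : x ∈ D.T a
          · rw [← D.same ha hxT hx1] at hya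
            exact absurd (mem_els.2 hya) hyM
          · refine Or.inl (Or.inr ⟨D.T a, ?_, mem_sdiff.2 ⟨mem_els.2 hya, hyM⟩⟩)
            rcases (C.card_semi ha hap).1 with h | h
            · exact mem_union_left _ (mem_flips.2 ⟨mem_tori.2 ⟨a, ha, hap, h, rfl⟩, hxa, hxT⟩)
            · exact mem_union_right _ (mem_flips.2 ⟨mem_tori.2 ⟨a, ha, hap, h, rfl⟩, hxa, hxT⟩)
      · have hV : V ∈ fours X := mem_fours.2 ⟨hV4, hV2⟩
        have hxV' := sq_fours C hV hxV hxx
        refine Or.inr ⟨V, mem_foursAt.2 ⟨hV, hxV'⟩, mem_sdiff.2 ⟨mem_els.2 hyV, fun h => hyM ?_⟩⟩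
        exact mem_els.2 ((commute_iff C hx).1 (fours_comm hV (mem_els.1 h) hxV'))
    · rintro ((hy | ⟨S, hS, hy⟩) | ⟨V, hV, hy⟩)
      · exact mem_sol_of_le _ (isSolvable_normalizer hx1) (Subgroup.le_normalizer (D.self x)) (mem_els.1 hy)
      · obtain ⟨t, -, h⟩ := hFm hS
        obtain ⟨h1, h2, -⟩ := mem_flips.1 h
        obtain ⟨a, ha, hap, rfl, -⟩ := mem_tori_self C.toSetup h1
        exact mem_sol_of_le _ (isSolvable_normalizer ha) h2 (mem_els.1 (mem_sdiff.1 hy).1)
      · obtain ⟨hV, hxV⟩ := mem_foursAt.1 hV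
        exact mem_sol_of_le _ (isSolvable_normalizer_fours C hV) (Subgroup.le_normalizer hxV)
          (mem_els.1 (mem_sdiff.1 hy).1)
  have hd1 : Disjoint M (F.biUnion P) := by
    rw [Finset.disjoint_left]
    intro y hy hy'
    obtain ⟨S, -, hyS⟩ := mem_biUnion.1 hy'
    exact (mem_sdiff.1 hyS).2 hy
  have hd2 : Disjoint (M ∪ F.biUnion P) ((foursAt x).biUnion Q) := by
    rw [Finset.disjoint_left]
    intro y hy hy'
    obtain ⟨V, hV, hyV⟩ := mem_biUnion.1 hy'
    obtain ⟨hV, hxV⟩ := mem_foursAt.1 hV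
    simp only [Q, mem_sdiff, mem_els] at hyV
    obtain ⟨h3, hy1, hfree⟩ := fours_facts C hV hyV.1 hyV.2
    rcases mem_union.1 hy with h | h
    · exact hfree x hxV hx1 ((commute_iff C hx).2 (mem_els.1 h))
    · obtain ⟨S, hS, hyS⟩ := mem_biUnion.1 h
      obtain ⟨t, ht, hS⟩ := hFm hS
      haveI : Fact (Nat.Prime 3) := ⟨Nat.prime_three⟩
      have hd := Subgroup.orderOf_dvd_natCard _ (mem_els.1 (mem_sdiff.1 hyS).1)
      rw [orderOf_eq_prime h3 hy1, (card_normalizer_tori C.toSetup (mem_flips.1 hS).1).1] at hd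
      exact hcopq ht ((Nat.prime_three.dvd_mul.1 hd).resolve_left (by norm_num))
  have hP2 : Set.PairwiseDisjoint (F : Set (Subgroup X)) P := by
    intro S hS R hR hne
    rw [Function.onFun, Finset.disjoint_left]
    intro y hy hy'
    obtain ⟨s, -, hs⟩ := hFm hS
    obtain ⟨t, -, ht⟩ := hFm hR
    simp only [P, M, mem_sdiff, mem_els] at hy hy'
    exact hne (eq_of_common C.toSetup hs ht hy.1 hy'.1 fun hc => hy.2 ((commute_iff C hx).1 hc.symm))
  have hQ2 : Set.PairwiseDisjoint (foursAt x : Set (Subgroup X)) Q := by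
    intro V hV W hW hne
    rw [Function.onFun, Finset.disjoint_left]
    intro y hy hy'
    obtain ⟨hV, hxV⟩ := mem_foursAt.1 hV
    obtain ⟨hW, hxW⟩ := mem_foursAt.1 hW
    simp only [Q, mem_sdiff, mem_els] at hy hy'
    refine hne (Subgroup.eq_of_le_of_card_ge (fun w hw => ?_) (by rw [(mem_fours.1 hW).1, (mem_fours.1 hV).1]))
    obtain ⟨-, -, hfree⟩ := fours_facts C hV hy.1 hy.2
    have hx' := (Subgroup.mem_normalizer_iff.1 hy.1 x).1 hxV
    have hxW' := (Subgroup.mem_normalizer_iff.1 hy'.1 x).1 hxW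
    have hxne : y * x * y⁻¹ ≠ x := fun e => hfree x hxV hx1 (mul_inv_eq_iff_eq_mul.1 e)
    obtain ⟨he, -⟩ := els_fours hV hxV hx' hx1 (fun e => hx1 (conj_eq_one_iff.1 e)) (Ne.symm hxne)
    have hw' := mem_els.2 hw
    rw [he] at hw'
    simp only [mem_insert, mem_singleton] at hw'
    rcases hw' with rfl | rfl | rfl | rfl
    · exact one_mem _
    · exact hxW
    · exact hxW'
    · exact mul_mem hxW hxW'
  have hFd : Disjoint (flips D u x) (flips D v x) := by
    rw [Finset.disjoint_left]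
    intro S h1 h2
    exact u_ne_v C.toSetup ((card_normalizer_tori C.toSetup (mem_flips.1 h1).1).2.symm.trans
      (card_normalizer_tori C.toSetup (mem_flips.1 h2).1).2)
  have hPu : ∀ S ∈ flips D u x, (P S).card = 2 * u - 2 := by
    intro S hS
    obtain ⟨h1, h2, h3⟩ := mem_flips.1 hS
    obtain ⟨a, ha, hap, rfl, hca⟩ := mem_tori_self C.toSetup h1
    rw [show P (D.T a) = els (Subgroup.normalizer (D.T a : Set X)) \ {1, x} from ?_, card_sdiff_of_subset ?_,
      card_els, (card_normalizer_tori C.toSetup h1).1, card_pair (Ne.symm hx1)]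
    · intro y hy
      simp only [mem_insert, mem_singleton] at hy
      rcases hy with rfl | rfl
      · exact mem_els.2 (one_mem _)
      · exact mem_els.2 h2
    ext y
    simp only [P, M, mem_sdiff, mem_els, mem_insert, mem_singleton, not_or]
    constructor
    · rintro ⟨hy, hn⟩
      exact ⟨hy, fun e => hn (e ▸ one_mem _), fun e => hn (by rw [e]; exact Subgroup.le_normalizer (D.self x))⟩
    · rintro ⟨hy, h4, h5⟩
      refine ⟨hy, fun hn => ?_⟩
      obtain ⟨z, hz, hzz, hy'⟩ := commuting_part ha hap h2 h3 hy ((commute_iff C hx).2 hn).symm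
      rw [eq_one_of_odd (by rw [hca]; exact C.huo) hz hzz, mul_one] at hy'
      exact hy'.elim h4 h5
  have hPv : ∀ S ∈ flips D v x, (P S).card = 2 * v - 4 := by
    intro S hS
    obtain ⟨h1, h2, h3⟩ := mem_flips.1 hS
    obtain ⟨z, hz, hzS, hTz⟩ := exists_invol C h1
    obtain ⟨hz1, hzz⟩ := mem_invols.1 hz
    obtain ⟨a, ha, hap, rfl, hca⟩ := mem_tori_self C.toSetup h1
    obtain ⟨-, hinv⟩ := flip_facts ha hap h2 h3
    have hxz : x * z = z * x := by
      rw [← mul_inv_eq_iff_eq_mul, hinv z hzS]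
      exact inv_eq_of_mul_eq_one_right hzz
    rw [show P (D.T a) = els (Subgroup.normalizer (D.T a : Set X)) \ {1, x, z, x * z} from ?_,
      card_sdiff_of_subset ?_, card_els, (card_normalizer_tori C.toSetup h1).1,
      card_insert_of_notMem, card_insert_of_notMem, card_pair]
    · exact fun e => hx1 (mul_eq_right.1 e.symm)
    · simp only [mem_insert, mem_singleton, not_or]
      exact ⟨fun e => h3 (e ▸ hzS), fun e => hz1 (mul_eq_left.1 e.symm)⟩
    · simp only [mem_insert, mem_singleton, not_or]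
      refine ⟨Ne.symm hx1, Ne.symm hz1, fun e => h3 ?_⟩
      rw [show x = z⁻¹ from eq_inv_of_mul_eq_one_left e.symm]
      exact inv_mem hzS
    · intro y hy
      simp only [mem_insert, mem_singleton] at hy
      rcases hy with rfl | rfl | rfl | rfl
      · exact mem_els.2 (one_mem _)
      · exact mem_els.2 h2
      · exact mem_els.2 (Subgroup.le_normalizer hzS)
      · exact mem_els.2 (mul_mem h2 (Subgroup.le_normalizer hzS))
    ext y
    simp only [P, M, mem_sdiff, mem_els, mem_insert, mem_singleton, not_or]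
    have hzM : z ∈ Subgroup.normalizer (D.T x : Set X) := (commute_iff C hx).1 hxz.symm
    have hxM : x ∈ Subgroup.normalizer (D.T x : Set X) := Subgroup.le_normalizer (D.self x)
    constructor
    · rintro ⟨hy, hn⟩
      exact ⟨hy, fun e => hn (e ▸ one_mem _), fun e => hn (e ▸ hxM), fun e => hn (e ▸ hzM),
        fun e => hn (e ▸ mul_mem hxM hzM)⟩
    · rintro ⟨hy, h4, h5, h6, h7⟩
      refine ⟨hy, fun hn => ?_⟩
      obtain ⟨w, hw, hww, hy'⟩ := commuting_part ha hap h2 h3 hy ((commute_iff C hx).2 hn).symm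
      rcases eq_or_ne w 1 with rfl | hw1
      · rw [mul_one] at hy'
        exact hy'.elim h4 h5
      · rw [invol_unique C ha hap hw hzS hw1 hww hz1 hzz] at hy'
        exact hy'.elim h6 h7
  have hQc : ∀ V ∈ foursAt x, (Q V).card = 8 := fun V hV => by
    obtain ⟨hV, -⟩ := mem_foursAt.1 hV
    rw [show Q V = els (Subgroup.normalizer (V : Set X)) \ els V from rfl,
      card_sdiff_of_subset fun y hy => mem_els.2 (Subgroup.le_normalizer (mem_els.1 hy)), card_els, card_els,
      card_normalizer_fours C hV, (mem_fours.1 hV).1]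
  rw [hsol, card_union_of_disjoint hd2, card_union_of_disjoint hd1, card_biUnion hP2, card_biUnion hQ2,
    hF, sum_union hFd, sum_congr rfl hPu, sum_congr rfl hPv, sum_congr rfl hQc, sum_const, sum_const, sum_const,
    smul_eq_mul, smul_eq_mul, smul_eq_mul, odd_flips C (Or.inl rfl) hx, odd_flips C (Or.inr rfl) hx, hM, card_els,
    (C.card_semi hx1 hxp).2, card_even C hx]
  have hu := C.hu
  have hv := C.hv
  have hf := card_foursAt C hx
  have hu2 := C.hu2
  have hv2 := C.hv2
  obtain ⟨u', rfl⟩ : ∃ u', u = u' + 1 := ⟨u - 1, by omega⟩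
  obtain ⟨v', rfl⟩ : ∃ v', v = v' + 2 := ⟨v - 2, by omega⟩
  rw [show 2 * (u' + 1) - 2 = 2 * u' by omega, show 2 * (v' + 2) - 4 = 2 * v' by omega]
  have huv : (u' + 1) + (v' + 2) = q := by omega
  rw [← hv, ← huv]
  linear_combination 4 * hf

/-- The fours groups normalised by an element. -/
noncomputable def foursN (x : X) : Finset (Subgroup X) :=
  letI := _root_.Classical.decPred fun V : Subgroup X => x ∈ Subgroup.normalizer (V : Set X)
  (fours X).filter fun V => x ∈ Subgroup.normalizer (V : Set X)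

omit C in
theorem mem_foursN {x : X} {V : Subgroup X} :
    V ∈ foursN x ↔ V ∈ fours X ∧ x ∈ Subgroup.normalizer (V : Set X) := by simp [foursN]

omit C in
theorem conj_fours {V : Subgroup X} (hV : V ∈ fours X) (g : X) : MulAut.conj g • V ∈ fours X := by
  refine mem_fours.2 ⟨(Subgroup.card_map_of_injective (MulAut.conj g).injective).trans (mem_fours.1 hV).1, ?_⟩
  intro w hw
  rw [Subgroup.mem_smul_pointwise_iff_exists] at hw
  obtain ⟨z, hz, rfl⟩ := hw
  rw [MulAut.smul_def, ← map_mul, (mem_fours.1 hV).2 z hz, map_one]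

omit C in
theorem card_foursN_conj (g x : X) : (foursN (g * x * g⁻¹)).card = (foursN x).card := by
  classical
  refine (Finset.card_bij (fun S _ => MulAut.conj g • S) (fun S hS => ?_) (fun S _ R _ h => smul_left_cancel _ h)
    fun R hR => ?_).symm
  · obtain ⟨h1, h2⟩ := mem_foursN.1 hS
    exact mem_foursN.2 ⟨conj_fours h1 g, mem_normalizer_smul.2 h2⟩
  · obtain ⟨h1, h2⟩ := mem_foursN.1 hR
    have hR' : MulAut.conj g • (MulAut.conj g⁻¹ • R) = R := by rw [map_inv, smul_inv_smul]
    rw [← hR'] at h2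
    exact ⟨_, mem_foursN.2 ⟨conj_fours h1 g⁻¹, mem_normalizer_smul.1 h2⟩, hR'⟩

theorem odd_borel {x : X} (hx : x ≠ 1) (hxp : x ^ 3 = 1) :
    ¬ 2 ∣ Nat.card (Subgroup.normalizer (D.T x : Set X)) := by
  rw [(C.card_uni hx hxp).2]
  exact fun h => (Nat.prime_two.dvd_mul.1 h).elim (q_odd C) C.huo

/-- Every element of order three is conjugate to a given one or to its inverse. -/
theorem three_classes {x : X} (hx : x ≠ 1) (hxp : x ^ 3 = 1) {y : X} (hy : y ≠ 1) (hyp : y ^ 3 = 1) :
    ∃ g : X, g * x * g⁻¹ = y ∨ g * x * g⁻¹ = y⁻¹ := by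
  classical
  set K := univ.image fun g : X => g * x * g⁻¹ with hK
  have h1 : 2 * (u * v) ≤ K.card := by
    have h : (univ : Finset X).card ≤ K.card * q := by
      rw [Finset.card_eq_sum_card_fiberwise (f := fun g : X => g * x * g⁻¹) (t := K)
        fun g _ => mem_image.2 ⟨g, mem_univ g, rfl⟩]
      refine sum_le_card_nsmul _ _ q fun z hz => ?_
      obtain ⟨g, -, rfl⟩ := mem_image.1 hz
      rw [← (C.card_uni hx hxp).1, ← card_els]
      refine Finset.card_le_card_of_injOn (fun h => g⁻¹ * h) (fun h hh => ?_) fun a _ b _ e => mul_left_cancel e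
      refine mem_els.2 (D.uni_cent hx hxp ?_)
      have he : h * x * h⁻¹ = g * x * g⁻¹ := (mem_filter.1 hh).2
      show g⁻¹ * h * x = x * (g⁻¹ * h)
      calc g⁻¹ * h * x = g⁻¹ * (h * x * h⁻¹) * h := by group
        _ = g⁻¹ * (g * x * g⁻¹) * h := by rw [he]
        _ = x * (g⁻¹ * h) := by group
    rw [card_univ, ← Nat.card_eq_fintype_card, C.card, show 2 * (q * (u * v)) = 2 * (u * v) * q by ring] at h
    exact Nat.le_of_mul_le_mul_right h (by have := one_lt_q C.toSetup; omega)
  have hd : Disjoint K (K.image fun z => z⁻¹) := by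
    rw [Finset.disjoint_left]
    intro z hz hz'
    obtain ⟨g, -, rfl⟩ := mem_image.1 hz
    obtain ⟨w, hw, hwz⟩ := mem_image.1 hz'
    obtain ⟨h, -, rfl⟩ := mem_image.1 hw
    have hk : h⁻¹ * g * x * (h⁻¹ * g)⁻¹ = x⁻¹ := by
      rw [show h⁻¹ * g * x * (h⁻¹ * g)⁻¹ = h⁻¹ * (g * x * g⁻¹) * h by group, ← hwz]
      group
    generalize h⁻¹ * g = k at hk
    have hkN : k ∈ Subgroup.normalizer (D.T x : Set X) :=
      (D.mem_normalizer_iff hx).2 (hk ▸ inv_mem (D.self x))
    have hk2 : Commute (k ^ 2) x := by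
      show k ^ 2 * x = x * k ^ 2
      have : k ^ 2 * x * (k ^ 2)⁻¹ = x := by
        rw [show k ^ 2 * x * (k ^ 2)⁻¹ = k * (k * x * k⁻¹) * k⁻¹ by simp [pow_two, mul_assoc], hk,
          show k * x⁻¹ * k⁻¹ = (k * x * k⁻¹)⁻¹ by group, hk, inv_inv]
      exact mul_inv_eq_iff_eq_mul.1 this
    have hkodd : ¬ 2 ∣ orderOf k := fun h => odd_borel C hx hxp (h.trans (Subgroup.orderOf_dvd_natCard _ hkN))
    obtain ⟨m, hm⟩ : ∃ m, orderOf k + 1 = 2 * m := ⟨(orderOf k + 1) / 2, by omega⟩
    have hkx : Commute k x := by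
      have e : (k ^ 2) ^ m = k := by rw [← pow_mul, ← hm, pow_succ, pow_orderOf_eq_one, one_mul]
      exact e ▸ hk2.pow_left m
    rw [hkx.eq, mul_inv_cancel_right] at hk
    exact hx (by
      have : x * x = 1 := mul_eq_one_iff_eq_inv.2 hk
      rwa [show (3 : ℕ) = 2 + 1 from rfl, pow_succ, pow_two, this, one_mul] at hxp)
  set U := univ.filter fun z : X => z ≠ 1 ∧ z ^ 3 = 1 with hU
  have hsub : K ∪ (K.image fun z => z⁻¹) ⊆ U := by
    intro z hz
    have hKU : ∀ z ∈ K, z ∈ U := fun z hz => by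
      obtain ⟨g, -, rfl⟩ := mem_image.1 hz
      exact mem_filter.2 ⟨mem_univ _, fun e => hx (conj_eq_one_iff.1 e), by rw [conj_pow, hxp, mul_one, mul_inv_cancel]⟩
    rcases mem_union.1 hz with h | h
    · exact hKU z h
    · obtain ⟨w, hw, rfl⟩ := mem_image.1 h
      obtain ⟨-, h1, h2⟩ := mem_filter.1 (hKU w hw)
      exact mem_filter.2 ⟨mem_univ _, by simpa using h1, by rw [inv_pow, h2, inv_one]⟩
  have hUc : U.card = 4 * (u * v) := by
    have h := card_unipotent C.toSetup
    rw [Nat.card_eq_fintype_card, Fintype.card_subtype] at h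
    rw [hU, h]
    have := C.hu
    have := C.hv
    have : q * q = 4 * (u * v) + 1 := by nlinarith
    omega
  have hyU : y ∈ K ∪ (K.image fun z => z⁻¹) := by
    rw [eq_of_subset_of_card_le hsub (by
      rw [card_union_of_disjoint hd, card_image_of_injective _ inv_injective, hUc]; omega)]
    exact mem_filter.2 ⟨mem_univ _, hy, hyp⟩
  rcases mem_union.1 hyU with h | h
  · obtain ⟨g, -, hg⟩ := mem_image.1 h
    exact ⟨g, Or.inl hg⟩
  · obtain ⟨w, hw, hwy⟩ := mem_image.1 h
    obtain ⟨g, -, hg⟩ := mem_image.1 hw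
    exact ⟨g, Or.inr (by rw [hg, ← hwy, inv_inv])⟩

theorem card_foursN {x : X} (hx : x ≠ 1) (hxp : x ^ 3 = 1) : 3 * (foursN x).card = q := by
  classical
  set U := univ.filter fun z : X => z ≠ 1 ∧ z ^ 3 = 1 with hU
  have hUc : U.card = q * q - 1 := by
    rw [← card_unipotent C.toSetup, Nat.card_eq_fintype_card, Fintype.card_subtype]
  have hconst : ∀ y ∈ U, (foursN y).card = (foursN x).card := by
    intro y hy
    obtain ⟨-, hy1, hyp⟩ := mem_filter.1 hy
    obtain ⟨g, hg | hg⟩ := three_classes C hx hxp hy1 hyp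
    · rw [← hg, card_foursN_conj]
    · rw [← card_foursN_conj g x, hg]
      congr 1
      ext V
      simp [mem_foursN]
  have h1 : ∑ y ∈ U, (foursN y).card = U.card * (foursN x).card := by
    rw [sum_congr rfl hconst, sum_const, smul_eq_mul]
  have hA : ∀ y : X, (foursN y).card = ∑ V ∈ fours X, if y ∈ Subgroup.normalizer (V : Set X) then 1 else 0 :=
    fun y => by rw [← card_filter]; congr 1
  simp only [hA] at h1
  rw [Finset.sum_comm, sum_congr rfl fun V hV => show _ = 8 by
    rw [← card_filter, show (U.filter fun y => y ∈ Subgroup.normalizer (V : Set X)) =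
      els (Subgroup.normalizer (V : Set X)) \ els V from ?_,
      card_sdiff_of_subset fun y hy => mem_els.2 (Subgroup.le_normalizer (mem_els.1 hy)), card_els, card_els,
      card_normalizer_fours C hV, (mem_fours.1 hV).1]
    ext y
    simp only [U, mem_filter, mem_univ, true_and, mem_sdiff, mem_els]
    constructor
    · rintro ⟨⟨hy1, hy3⟩, hy⟩
      exact ⟨hy, fun h => three_ne hy1 ((mem_fours.1 hV).2 y h) hy3⟩
    · rintro ⟨hy, hn⟩
      obtain ⟨h3, hy1, -⟩ := fours_facts C hV hy hn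
      exact ⟨⟨hy1, h3⟩, hy⟩, sum_const, smul_eq_mul, ← hA x, hUc] at h1
  have hF := card_fours C
  have hu := C.hu
  have hv := C.hv
  have hq : q * q - 1 = 4 * (u * v) := by
    have : q * q = 4 * (u * v) + 1 := by nlinarith
    omega
  rw [hq] at h1
  refine Nat.eq_of_mul_eq_mul_left (show 0 < 4 * (u * v) from by
    have := C.hu2; have := C.hv2; positivity) ?_
  linear_combination 4 * hF - 3 * h1

/-- The solubiliser of an element of order three. -/
theorem sol_three {x : X} (hx : x ≠ 1) (hxp : x ^ 3 = 1) : 2 * (sol x).card = q * (q + 5) := by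
  classical
  haveI : Fact (Nat.Prime 3) := ⟨Nat.prime_three⟩
  haveI : Fact (Nat.Prime 2) := ⟨Nat.prime_two⟩
  have hxo : orderOf x = 3 := orderOf_eq_prime hxp hx
  set Z := els (Subgroup.zpowers x) with hZ
  set B := els (Subgroup.normalizer (D.T x : Set X)) with hB
  set Q : Subgroup X → Finset X := fun V => els (Subgroup.normalizer (V : Set X)) \ Z with hQ
  have hZB : Z ⊆ B := fun y hy => mem_els.2
    (Subgroup.zpowers_le.2 (Subgroup.le_normalizer (D.self x)) (mem_els.1 hy))
  have hsol : sol x = B ∪ (foursN x).biUnion Q := by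
    ext y
    simp only [mem_union, mem_biUnion]
    constructor
    · intro hy
      rcases mem_sol_cases C.toSetup' hx hy with ⟨a, ha, hxa, hya⟩ | ⟨-, -, V, hV4, hV2, hxV, hyV, -⟩
      · by_cases hap : a ^ 3 = 1
        · rw [← D.same ha (mem_tor_of_mem_borel C.toSetup ha hap hxa hxp) hx] at hya
          exact Or.inl (mem_els.2 hya)
        · by_cases hxT : x ∈ D.T a
          · exact absurd hxp (D.semi_of_ne ha hap hxT hx)
          · exact absurd (flip_facts ha hap hxa hxT).1 fun e => three_ne hx e hxp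
      · by_cases hyZ : y ∈ Z
        · exact Or.inl (hZB hyZ)
        · exact Or.inr ⟨V, mem_foursN.2 ⟨mem_fours.2 ⟨hV4, hV2⟩, hxV⟩, mem_sdiff.2 ⟨mem_els.2 hyV, hyZ⟩⟩
    · rintro (hy | ⟨V, hV, hy⟩)
      · exact mem_sol_of_le _ (isSolvable_normalizer hx) (Subgroup.le_normalizer (D.self x)) (mem_els.1 hy)
      · exact mem_sol_of_le _ (isSolvable_normalizer_fours C (mem_foursN.1 hV).1) (mem_foursN.1 hV).2
          (mem_els.1 (mem_sdiff.1 hy).1)
  have hzc : Nat.card (Subgroup.zpowers x) = 3 := by rw [Nat.card_zpowers, hxo]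
  have small : ∀ K : Subgroup X, x ∈ K → Nat.card K ∣ 12 → ¬ 2 ∣ Nat.card K → K = Subgroup.zpowers x := by
    intro K hxK hd hodd
    refine (Subgroup.eq_of_le_of_card_ge (Subgroup.zpowers_le.2 hxK) ?_).symm
    rw [hzc]
    refine Nat.le_of_dvd (by norm_num) (Nat.Coprime.dvd_of_dvd_mul_left ?_ (show Nat.card K ∣ 4 * 3 from hd))
    exact Nat.Coprime.pow_right 2 ((Nat.prime_two.coprime_iff_not_dvd.2 hodd).symm)
  have hd1 : Disjoint B ((foursN x).biUnion Q) := by
    rw [Finset.disjoint_left]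
    intro y hy hy'
    obtain ⟨V, hV, hyV⟩ := mem_biUnion.1 hy'
    obtain ⟨hV, hxV⟩ := mem_foursN.1 hV
    simp only [Q, mem_sdiff] at hyV
    refine hyV.2 (mem_els.2 ?_)
    rw [← small (Subgroup.normalizer (V : Set X) ⊓ Subgroup.normalizer (D.T x : Set X))
      ⟨hxV, Subgroup.le_normalizer (D.self x)⟩
      (card_normalizer_fours C hV ▸ Subgroup.card_dvd_of_le inf_le_left)
      (fun h => odd_borel C hx hxp (h.trans (Subgroup.card_dvd_of_le inf_le_right)))]
    exact ⟨mem_els.1 hyV.1, mem_els.1 hy⟩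
  have hd2 : Set.PairwiseDisjoint (foursN x : Set (Subgroup X)) Q := by
    intro V hV W hW hne
    rw [Function.onFun, Finset.disjoint_left]
    intro y hy hy'
    obtain ⟨hV, hxV⟩ := mem_foursN.1 hV
    obtain ⟨hW, hxW⟩ := mem_foursN.1 hW
    simp only [Q, mem_sdiff] at hy hy'
    set K := Subgroup.normalizer (V : Set X) ⊓ Subgroup.normalizer (W : Set X) with hK
    by_cases h2 : 2 ∣ Nat.card K
    · obtain ⟨i, hi⟩ := exists_prime_orderOf_dvd_card' (G := K) 2 h2
      have hi' : orderOf (i : X) = 2 := by rw [Subgroup.orderOf_coe]; exact hi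
      have hi1 : (i : X) ≠ 1 := fun e => by rw [e, orderOf_one] at hi'; exact absurd hi' (by norm_num)
      have hii : (i : X) * i = 1 := by rw [← pow_two, ← hi']; exact pow_orderOf_eq_one _
      have hiV := sq_fours C hV i.2.1 hii
      have hiW := sq_fours C hW i.2.2 hii
      have hxnV : x ∉ V := fun h => three_ne hx ((mem_fours.1 hV).2 x h) hxp
      obtain ⟨-, -, hfree⟩ := fours_facts C hV hxV hxnV
      have hj := (Subgroup.mem_normalizer_iff.1 hxV i).1 hiV
      have hjW := (Subgroup.mem_normalizer_iff.1 hxW i).1 hiW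
      obtain ⟨he, -⟩ := els_fours hV hiV hj hi1 (fun e => hi1 (conj_eq_one_iff.1 e))
        (fun e => hfree _ hiV hi1 (mul_inv_eq_iff_eq_mul.1 e.symm))
      refine hne (Subgroup.eq_of_le_of_card_ge (fun w hw => ?_) (by rw [(mem_fours.1 hW).1, (mem_fours.1 hV).1]))
      have hw' := mem_els.2 hw
      rw [he] at hw'
      simp only [mem_insert, mem_singleton] at hw'
      rcases hw' with rfl | rfl | rfl | rfl
      · exact one_mem _
      · exact hiW
      · exact hjW
      · exact mul_mem hiW hjW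
    · refine hy.2 (mem_els.2 ?_)
      rw [← small K ⟨hxV, hxW⟩ (card_normalizer_fours C hV ▸ Subgroup.card_dvd_of_le inf_le_left) h2]
      exact ⟨mem_els.1 hy.1, mem_els.1 hy'.1⟩
  have hQc : ∀ V ∈ foursN x, (Q V).card = 9 := fun V hV => by
    obtain ⟨hV, hxV⟩ := mem_foursN.1 hV
    rw [show Q V = els (Subgroup.normalizer (V : Set X)) \ Z from rfl,
      card_sdiff_of_subset fun y hy => mem_els.2 (Subgroup.zpowers_le.2 hxV (mem_els.1 hy)), card_els, card_els,
      card_normalizer_fours C hV, hzc]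
  rw [hsol, card_union_of_disjoint hd1, card_biUnion hd2, sum_congr rfl hQc, sum_const, smul_eq_mul, hB, card_els,
    (C.card_uni hx hxp).2]
  have hk := card_foursN C hx hxp
  rw [show q + 5 = 2 * u + 6 by have := C.hu; omega]
  linear_combination 6 * hk

end Cfsg.Agent.Lie.Solub
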