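import Cfsg.Agent.Lib.Lie.Solub.Flips

/-! Involutions and fours groups in characteristic three, odd degree. -/

set_option autoImplicit false
set_option linter.unusedSectionVars false

namespace Cfsg.Agent.Lie.Solub

open scoped Pointwise
open Finset Cfsg.Agent.Dickson

variable {X : Type*} [Group X] [Fintype X]

/-- The setup for `PSL(2, 3 ^ f)` with `f` odd. -/
structure Setup3 (D : Data X 3) (q u v : ℕ) : Prop extends Setup' D q u v 2 where
  huo : ¬ 2 ∣ u
  hv4 : ¬ 4 ∣ v

variable {D : Data X 3} {q u v : ℕ} (C : Setup3 D q u v)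

theorem three_ne {x : X} (hx : x ≠ 1) (hxx : x * x = 1) : x ^ 3 ≠ 1 := fun h => hx (by
  rwa [show (3 : ℕ) = 2 + 1 from rfl, pow_succ, pow_two, hxx, one_mul] at h)

include C

theorem v_even : 2 ∣ v := by have := C.hu; have := C.hv; have := C.huo; omega

theorem q_odd : ¬ 2 ∣ q := by have := C.hu; omega

theorem card_even {x : X} (hx : x ∈ invols X) : Nat.card (D.T x) = v := by
  obtain ⟨hx1, hxx⟩ := mem_invols.1 hx
  exact card_tor_of_dvd C.toSetup (Or.inr rfl) hx1 (three_ne hx1 hxx)
    ((orderOf_dvd_of_pow_eq_one (by rw [pow_two]; exact hxx)).trans (v_even C))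

theorem invol_unique {a z w : X} (ha : a ≠ 1) (hap : a ^ 3 ≠ 1) (hz : z ∈ D.T a) (hw : w ∈ D.T a)
    (hz1 : z ≠ 1) (hzz : z * z = 1) (hw1 : w ≠ 1) (hww : w * w = 1) : z = w := by
  classical
  haveI := D.semi_cyclic ha hap
  by_contra hne
  have h := IsCyclic.card_pow_eq_one_le (α := D.T a) (n := 2) (by norm_num)
  have hsub : ({⟨1, one_mem _⟩, ⟨z, hz⟩, ⟨w, hw⟩} : Finset (D.T a)) ⊆ univ.filter fun t : D.T a => t ^ 2 = 1 := by
    intro t ht
    simp only [mem_insert, mem_singleton] at ht
    rw [mem_filter]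
    refine ⟨mem_univ _, Subtype.ext ?_⟩
    rcases ht with rfl | rfl | rfl <;> simp [pow_two, hzz, hww]
  have hc : ({⟨1, one_mem _⟩, ⟨z, hz⟩, ⟨w, hw⟩} : Finset (D.T a)).card = 3 := by
    rw [card_insert_of_notMem (by simp [Subtype.ext_iff, Ne.symm hz1, Ne.symm hw1]),
      card_pair (fun e => hne (congrArg Subtype.val e))]
  have := card_le_card hsub
  omega

theorem commute_iff {x y : X} (hx : x ∈ invols X) :
    y * x = x * y ↔ y ∈ Subgroup.normalizer (D.T x : Set X) := by
  obtain ⟨hx1, hxx⟩ := mem_invols.1 hx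
  refine ⟨fun h => (D.mem_normalizer_iff hx1).2 (by rw [h, mul_inv_cancel_right]; exact D.self x), fun h => ?_⟩
  have hu := invol_unique C hx1 (three_ne hx1 hxx) ((D.mem_normalizer_iff hx1).1 h) (D.self x)
    (fun e => hx1 (conj_eq_one_iff.1 e))
    (by rw [show y * x * y⁻¹ * (y * x * y⁻¹) = y * (x * x) * y⁻¹ by group, hxx, mul_one, mul_inv_cancel]) hx1 hxx
  exact mul_inv_eq_iff_eq_mul.1 hu

theorem exists_invol {S : Subgroup X} (hS : S ∈ tori D v) : ∃ z ∈ invols X, z ∈ S ∧ D.T z = S := by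
  haveI : Fact (Nat.Prime 2) := ⟨Nat.prime_two⟩
  obtain ⟨a, ha, hap, rfl, hc⟩ := mem_tori_self C.toSetup hS
  obtain ⟨z, hz⟩ := exists_prime_orderOf_dvd_card' (G := D.T a) 2 (hc ▸ v_even C)
  have hz' : orderOf (z : X) = 2 := by rw [Subgroup.orderOf_coe]; exact hz
  have hz1 : (z : X) ≠ 1 := fun e => by rw [e, orderOf_one] at hz'; exact absurd hz' (by norm_num)
  exact ⟨z, mem_invols.2 ⟨hz1, by rw [← pow_two, ← hz']; exact pow_orderOf_eq_one _⟩, z.2, D.same ha z.2 hz1⟩

theorem invols_conj {x y : X} (hx : x ∈ invols X) (hy : y ∈ invols X) : ∃ g : X, g * x * g⁻¹ = y := by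
  obtain ⟨hx1, hxx⟩ := mem_invols.1 hx
  obtain ⟨hy1, hyy⟩ := mem_invols.1 hy
  obtain ⟨g, hg⟩ := exists_conj_tori C.toSetup (Or.inr rfl)
    (mem_tori.2 ⟨x, hx1, three_ne hx1 hxx, card_even C hx, rfl⟩) (mem_tori.2 ⟨y, hy1, three_ne hy1 hyy, card_even C hy, rfl⟩)
  exact ⟨g, invol_unique C hy1 (three_ne hy1 hyy) (hg ▸ mem_smul_conj.2 (D.self x)) (D.self y)
    (fun e => hx1 (conj_eq_one_iff.1 e))
    (by rw [show g * x * g⁻¹ * (g * x * g⁻¹) = g * (x * x) * g⁻¹ by group, hxx, mul_one, mul_inv_cancel]) hy1 hyy⟩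

theorem card_invols : (invols X).card = q * u := by
  classical
  have h : (invols X).card = (tori D v).card := by
    refine Finset.card_bij (fun z _ => D.T z) (fun z hz => ?_) (fun z hz w hw h => ?_) (fun S hS => ?_)
    · obtain ⟨hz1, hzz⟩ := mem_invols.1 hz
      exact mem_tori.2 ⟨z, hz1, three_ne hz1 hzz, card_even C hz, rfl⟩
    · obtain ⟨hz1, hzz⟩ := mem_invols.1 hz
      obtain ⟨hw1, hww⟩ := mem_invols.1 hw
      exact invol_unique C hz1 (three_ne hz1 hzz) (D.self z) (h ▸ D.self w) hz1 hzz hw1 hww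
    · obtain ⟨z, hz, -, e⟩ := exists_invol C hS
      exact ⟨z, hz, e⟩
  rw [h]
  have := C.hv2
  refine Nat.eq_of_mul_eq_mul_right (show 0 < 2 * v by omega) ?_
  rw [card_tori C.toSetup (Or.inr rfl)]
  ring

theorem odd_flips {t : ℕ} (ht : t = u ∨ t = v) {x : X} (hx : x ∈ invols X) : (flips D t x).card = v := by
  have h := card_flips C.toSetup (t := t) fun y hy => invols_conj C hx hy
  rw [card_invols C] at h
  have h2 := card_tori C.toSetup ht
  have := one_lt_q C.toSetup
  have := C.hu2
  refine Nat.eq_of_mul_eq_mul_left (show 0 < 2 * (q * u) by positivity) ?_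
  linear_combination 2 * h + h2

omit C

/-- The fours groups. -/
noncomputable def fours (X : Type*) [Group X] [Fintype X] : Finset (Subgroup X) :=
  letI : Fintype (Subgroup X) := Fintype.ofFinite _
  letI := _root_.Classical.decPred fun V : Subgroup X => Nat.card V = 4 ∧ ∀ w ∈ V, w * w = 1
  univ.filter fun V => Nat.card V = 4 ∧ ∀ w ∈ V, w * w = 1

theorem mem_fours {V : Subgroup X} : V ∈ fours X ↔ Nat.card V = 4 ∧ ∀ w ∈ V, w * w = 1 := by simp [fours]

theorem fours_comm {V : Subgroup X} (hV : V ∈ fours X) {a b : X} (ha : a ∈ V) (hb : b ∈ V) : a * b = b * a := by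
  have h := (mem_fours.1 hV).2
  calc a * b = (a * b)⁻¹ := (inv_eq_of_mul_eq_one_right (h _ (mul_mem ha hb))).symm
    _ = b⁻¹ * a⁻¹ := mul_inv_rev a b
    _ = b * a := by rw [inv_eq_of_mul_eq_one_right (h b hb), inv_eq_of_mul_eq_one_right (h a ha)]

/-- A fours group is the set of products of two of its involutions. -/
theorem els_fours {V : Subgroup X} [DecidableEq X] (hV : V ∈ fours X) {a b : X} (ha : a ∈ V) (hb : b ∈ V)
    (ha1 : a ≠ 1) (hb1 : b ≠ 1) (hab : a ≠ b) :
    els V = {1, a, b, a * b} ∧ a * b ≠ 1 ∧ a * b ≠ a ∧ a * b ≠ b := by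
  have h1 : a * b ≠ 1 := fun e => hab (by
    have := (mem_fours.1 hV).2 b hb
    exact mul_right_cancel (e.trans this.symm))
  have h2 : a * b ≠ a := fun e => hb1 (mul_eq_left.1 e)
  have h3 : a * b ≠ b := fun e => ha1 (mul_eq_right.1 e)
  refine ⟨(eq_of_subset_of_card_le ?_ ?_).symm, h1, h2, h3⟩
  · intro y hy
    simp only [mem_insert, mem_singleton] at hy
    rcases hy with rfl | rfl | rfl | rfl
    · exact mem_els.2 (one_mem _)
    · exact mem_els.2 ha
    · exact mem_els.2 hb
    · exact mem_els.2 (mul_mem ha hb)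
  · rw [card_els, (mem_fours.1 hV).1, card_insert_of_notMem, card_insert_of_notMem, card_pair (Ne.symm h3)]
    · simp [hab, Ne.symm h2]
    · simp [Ne.symm ha1, Ne.symm hb1, Ne.symm h1]

theorem exists_invol_fours {V : Subgroup X} (hV : V ∈ fours X) : ∃ a ∈ V, a ≠ 1 ∧ a ∈ invols X := by
  by_contra h
  push Not at h
  have hb : V = ⊥ := (Subgroup.eq_bot_iff_forall V).2 fun a ha => by_contra fun h1 =>
    h a ha h1 (mem_invols.2 ⟨h1, (mem_fours.1 hV).2 a ha⟩)
  have := (mem_fours.1 hV).1
  rw [hb, Subgroup.card_bot] at this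
  exact absurd this (by norm_num)

theorem exists_other {V : Subgroup X} (hV : V ∈ fours X) (a : X) : ∃ b ∈ V, b ≠ 1 ∧ b ≠ a := by
  classical
  have hne : (els V \ {1, a}).Nonempty := card_pos.1 (by
    have h1 := le_card_sdiff ({1, a} : Finset X) (els V)
    have h2 := card_le_two (a := (1 : X)) (b := a)
    rw [card_els, (mem_fours.1 hV).1] at h1
    omega)
  obtain ⟨b, hb⟩ := hne
  simp only [mem_sdiff, mem_els, mem_insert, mem_singleton, not_or] at hb
  exact ⟨b, hb.1, hb.2.1, hb.2.2⟩

include C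

theorem fours_le {V : Subgroup X} (hV : V ∈ fours X) {x : X} (hx : x ∈ invols X) (hxV : x ∈ V) :
    V ≤ Subgroup.normalizer (D.T x : Set X) := fun _ hy => (commute_iff C hx).1 (fours_comm hV hy hxV)

/-- The fours groups through an element. -/
noncomputable def foursAt (x : X) : Finset (Subgroup X) :=
  letI := _root_.Classical.decPred fun V : Subgroup X => x ∈ V
  (fours X).filter fun V => x ∈ V

omit C in
theorem mem_foursAt {x : X} {V : Subgroup X} : V ∈ foursAt x ↔ V ∈ fours X ∧ x ∈ V := by simp [foursAt]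

theorem card_foursAt {x : X} (hx : x ∈ invols X) : 2 * (foursAt x).card = v := by
  classical
  obtain ⟨hx1, hxx⟩ := mem_invols.1 hx
  have hxp := three_ne hx1 hxx
  set E := els (Subgroup.normalizer (D.T x : Set X)) \ els (D.T x) with hE
  have hEc : E.card = v := by
    rw [hE, card_sdiff_of_subset fun y hy => mem_els.2 (Subgroup.le_normalizer (mem_els.1 hy)), card_els, card_els,
      (C.card_semi hx1 hxp).2, card_even C hx]
    omega
  have hsum : ∑ V ∈ foursAt x, (E.filter fun s => s ∈ V).card = E.card := by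
    simp only [card_filter]
    rw [Finset.sum_comm, card_eq_sum_ones E]
    refine sum_congr rfl fun s hs => ?_
    simp only [E, mem_sdiff, mem_els] at hs
    obtain ⟨hss, -⟩ := flip_facts hx1 hxp hs.1 hs.2
    have hcx : s * x = x * s := (commute_iff C hx).2 hs.1
    have hs1 : s ≠ 1 := fun e => hs.2 (e ▸ one_mem _)
    have hsx : x ≠ s := fun e => hs.2 (e ▸ D.self x)
    let V : Subgroup X := Subgroup.closure {x, s}
    have hmem : ∀ y ∈ V, y = 1 ∨ y = x ∨ y = s ∨ y = x * s := by
      intro y hy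
      refine Subgroup.closure_induction (p := fun y _ => y = 1 ∨ y = x ∨ y = s ∨ y = x * s) ?_ (Or.inl rfl) ?_ ?_ hy
      · rintro y (rfl | rfl) <;> simp
      · intro a b _ _ ha hb
        have r1 : s * (x * s) = x := by rw [← mul_assoc, hcx, mul_assoc, hss, mul_one]
        have r2 : x * (x * s) = s := by rw [← mul_assoc, hxx, one_mul]
        have r3 : x * s * x = s := by rw [mul_assoc, hcx, r2]
        have r4 : x * s * s = x := by rw [mul_assoc, hss, mul_one]
        have r5 : x * s * (x * s) = 1 := by rw [← mul_assoc, r3, hss]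
        rcases ha with rfl | rfl | rfl | rfl <;> rcases hb with rfl | rfl | rfl | rfl <;>
          simp [hxx, hss, hcx, r1, r2, r3, r4, r5]
      · intro a _ ha
        have r5 : (x * s)⁻¹ = x * s := by
          rw [mul_inv_rev, inv_eq_of_mul_eq_one_right hxx, inv_eq_of_mul_eq_one_right hss, hcx]
        rcases ha with rfl | rfl | rfl | rfl <;>
          simp [inv_eq_of_mul_eq_one_right hxx, inv_eq_of_mul_eq_one_right hss, r5]
    have hxV : x ∈ V := Subgroup.subset_closure (by simp)
    have hsV : s ∈ V := Subgroup.subset_closure (by simp)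
    have hxs1 : x * s ≠ 1 := fun e => hsx (mul_right_cancel (e.trans hss.symm))
    have hV : V ∈ fours X := by
      refine mem_fours.2 ⟨?_, fun w hw => ?_⟩
      · rw [← card_els, show els V = {1, x, s, x * s} from ?_, card_insert_of_notMem (by simp [Ne.symm hx1, Ne.symm hs1, Ne.symm hxs1]),
          card_insert_of_notMem (by simp [hsx, hs1]), card_pair (fun e => hx1 (mul_eq_right.1 e.symm))]
        ext y
        simp only [mem_els, mem_insert, mem_singleton]
        refine ⟨hmem y, ?_⟩
        rintro (rfl | rfl | rfl | rfl)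
        · exact one_mem _
        · exact hxV
        · exact hsV
        · exact mul_mem hxV hsV
      · rcases hmem w hw with rfl | rfl | rfl | rfl
        · exact one_mul 1
        · exact hxx
        · exact hss
        · rw [mul_assoc, ← mul_assoc s, hcx, mul_assoc x, hss, mul_one, hxx]
    rw [Finset.sum_eq_single V (fun W hW hne => if_neg fun hsW => hne ?_)
      (fun h => absurd (mem_foursAt.2 ⟨hV, hxV⟩) h), if_pos hsV]
    obtain ⟨hW, hxW⟩ := mem_foursAt.1 hW
    refine (Subgroup.eq_of_le_of_card_ge ((Subgroup.closure_le _).2 ?_) ?_).symm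
    · rintro y (rfl | rfl) <;> assumption
    · rw [(mem_fours.1 hW).1, (mem_fours.1 hV).1]
  rw [sum_congr rfl fun V hV => show _ = 2 by
    obtain ⟨hV, hxV⟩ := mem_foursAt.1 hV
    rw [show (E.filter fun s => s ∈ V) = els V \ {1, x} from ?_, card_sdiff_of_subset, card_els, (mem_fours.1 hV).1,
      card_pair (Ne.symm hx1)]
    · intro y hy
      simp only [mem_insert, mem_singleton] at hy
      rcases hy with rfl | rfl
      · exact mem_els.2 (one_mem _)
      · exact mem_els.2 hxV
    ext y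
    simp only [E, mem_filter, mem_sdiff, mem_els, mem_insert, mem_singleton, not_or]
    refine ⟨fun h => ⟨h.2, fun e => h.1.2 (e ▸ one_mem _), fun e => h.1.2 (e ▸ D.self x)⟩, fun h => ?_⟩
    refine ⟨⟨fours_le C hV hx hxV h.1, fun hy => h.2.2 ?_⟩, h.1⟩
    exact invol_unique C hx1 hxp hy (D.self x) h.2.1 ((mem_fours.1 hV).2 y h.1) hx1 hxx, sum_const, smul_eq_mul,
    hEc] at hsum
  rw [mul_comm]
  exact hsum

theorem card_fours : 6 * (fours X).card = q * u * v := by
  classical
  have hsum : ∑ x ∈ invols X, (foursAt x).card = 3 * (fours X).card := by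
    have hA : ∀ x : X, (foursAt x).card = ∑ V ∈ fours X, if x ∈ V then 1 else 0 := fun x => by
      rw [← card_filter]; congr 1
    simp only [hA]
    rw [Finset.sum_comm, sum_congr rfl fun V hV => show _ = 3 by
      rw [← card_filter, show ((invols X).filter fun x => x ∈ V) = (els V).erase 1 from ?_,
        card_erase_of_mem (mem_els.2 (one_mem _)), card_els, (mem_fours.1 hV).1]
      ext y
      simp only [mem_filter, mem_invols, mem_erase, mem_els]
      exact ⟨fun h => ⟨h.1.1, h.2⟩, fun h => ⟨⟨h.1, (mem_fours.1 hV).2 y h.2⟩, h.2⟩⟩, sum_const, smul_eq_mul,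
      mul_comm]
  calc 6 * (fours X).card = ∑ x ∈ invols X, 2 * (foursAt x).card := by rw [← mul_sum, hsum]; ring
    _ = (invols X).card * v := by rw [sum_congr rfl fun x hx => card_foursAt C hx, sum_const, smul_eq_mul]
    _ = q * u * v := by rw [card_invols C]

theorem centralizer_fours {V : Subgroup X} (hV : V ∈ fours X) {y : X} (hy : ∀ w ∈ V, y * w = w * y) : y ∈ V := by
  obtain ⟨a, haV, ha1, ha⟩ := exists_invol_fours hV
  obtain ⟨b, hbV, hb1, hba⟩ := exists_other hV a
  obtain ⟨-, haa⟩ := mem_invols.1 ha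
  have hbT : b ∉ D.T a := fun h => hba (invol_unique C ha1 (three_ne ha1 haa) h (D.self a) hb1
    ((mem_fours.1 hV).2 b hbV) ha1 haa)
  obtain ⟨z, hz, hzz, hy'⟩ := commuting_part ha1 (three_ne ha1 haa) (fours_le C hV ha haV hbV) hbT
    ((commute_iff C ha).1 (hy a haV)) (hy b hbV).symm
  have hzV : z ∈ V := by
    rcases eq_or_ne z 1 with rfl | hz1
    · exact one_mem _
    · rw [invol_unique C ha1 (three_ne ha1 haa) hz (D.self a) hz1 hzz ha1 haa]
      exact haV
  rcases hy' with rfl | rfl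
  · exact hzV
  · exact mul_mem hbV hzV

theorem card_normalizer_fours {V : Subgroup X} (hV : V ∈ fours X) :
    Nat.card (Subgroup.normalizer (V : Set X)) = 12 := by
  classical
  haveI : Fact (Nat.Prime 2) := ⟨Nat.prime_two⟩
  set N := Subgroup.normalizer (V : Set X) with hN
  let ι := {w : X // w ∈ V ∧ w ≠ 1}
  letI : MulAction N ι :=
    { smul := fun g w => ⟨(g : X) * w.1 * (g : X)⁻¹, (Subgroup.mem_normalizer_iff.1 g.2 _).1 w.2.1,
        fun e => w.2.2 (conj_eq_one_iff.1 e)⟩
      one_smul := fun w => Subtype.ext (show (1 : X) * w.1 * (1 : X)⁻¹ = w.1 by group)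
      mul_smul := fun g h w => Subtype.ext (show (g : X) * h * w.1 * ((g : X) * h)⁻¹ =
        g * ((h : X) * w.1 * (h : X)⁻¹) * (g : X)⁻¹ by group) }
  have hι : Nat.card ι = 3 := by
    rw [Nat.card_eq_fintype_card, Fintype.card_subtype, show (univ.filter fun w : X => w ∈ V ∧ w ≠ 1) = (els V).erase 1
      by ext y; simp [mem_els, and_comm], card_erase_of_mem (mem_els.2 (one_mem _)), card_els, (mem_fours.1 hV).1]
  set φ := MulAction.toPermHom N ι
  have hker : φ.ker = V.subgroupOf N := by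
    ext g
    rw [MonoidHom.mem_ker, Subgroup.mem_subgroupOf]
    constructor
    · intro h
      refine centralizer_fours C hV fun w hw => ?_
      rcases eq_or_ne w 1 with rfl | hw1
      · simp
      · have h' := congrArg Subtype.val (Equiv.ext_iff.1 h ⟨w, hw, hw1⟩)
        exact mul_inv_eq_iff_eq_mul.1 (show (g : X) * w * (g : X)⁻¹ = w from h')
    · intro hg
      refine Equiv.ext fun w => Subtype.ext ?_
      show (g : X) * w.1 * (g : X)⁻¹ = w.1
      rw [fours_comm hV hg w.2.1, mul_inv_cancel_right]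
  have hle : V ≤ N := Subgroup.le_normalizer
  have hcardN : Nat.card N = 4 * Nat.card φ.range := by
    rw [Subgroup.card_eq_card_quotient_mul_card_subgroup φ.ker,
      Nat.card_congr (QuotientGroup.quotientKerEquivRange φ).toEquiv, hker,
      Nat.card_congr (Subgroup.subgroupOfEquivOfLe hle).toEquiv, (mem_fours.1 hV).1, mul_comm]
  have hd6 : Nat.card φ.range ∣ 6 := by
    have := φ.range.card_subgroup_dvd_card
    rwa [Nat.card_perm, hι] at this
  have hodd : ¬ 2 ∣ Nat.card φ.range := fun h => by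
    have h8 : 8 ∣ Nat.card X := (show 8 ∣ Nat.card N by rw [hcardN]; omega).trans N.card_subgroup_dvd_card
    rw [C.card] at h8
    have h4 : 2 ^ 2 ∣ q * u * v := by
      rw [mul_assoc]
      exact Nat.dvd_of_mul_dvd_mul_left (show 0 < 2 by norm_num) h8
    exact C.hv4 (Nat.Coprime.dvd_of_dvd_mul_left (Nat.Coprime.pow_left 2 ((Nat.prime_two.coprime_iff_not_dvd).2
      fun h => (Nat.prime_two.dvd_mul.1 h).elim (q_odd C) C.huo)) h4)
  have hne : Nat.card φ.range ≠ 1 := by
    intro h1
    obtain ⟨a, haV, ha1, ha⟩ := exists_invol_fours hV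
    obtain ⟨b, hbV, hb1, hba⟩ := exists_other hV a
    have hb : b ∈ invols X := mem_invols.2 ⟨hb1, (mem_fours.1 hV).2 b hbV⟩
    obtain ⟨g, hg⟩ := invols_conj C ha hb
    set M := Subgroup.normalizer (D.T b : Set X) with hM
    have hVM : V ≤ M := fours_le C hV hb hbV
    set V' := V.map (MulAut.conj g).toMonoidHom with hV'
    have hV'M : V' ≤ M := by
      rintro _ ⟨w, hw, rfl⟩
      refine (commute_iff C hb).1 ?_
      show g * w * g⁻¹ * b = b * (g * w * g⁻¹)
      rw [← hg, show g * w * g⁻¹ * (g * a * g⁻¹) = g * (w * a) * g⁻¹ by group, fours_comm hV hw haV]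
      group
    have hMc : Nat.card M = 2 * v := by
      rw [hM, (C.card_semi hb1 (three_ne hb1 ((mem_fours.1 hV).2 b hbV))).2, card_even C hb]
    have hfac : (Nat.card M).factorization 2 = 2 := by
      rw [hMc]
      obtain ⟨w, hw⟩ := v_even C
      have hw2 : ¬ 2 ∣ w := fun h => C.hv4 (hw ▸ Nat.mul_dvd_mul_left 2 h)
      rw [hw, show 2 * (2 * w) = 2 ^ 2 * w by ring, Nat.factorization_mul (by norm_num) (by omega), Finsupp.add_apply,
        Nat.Prime.factorization_pow Nat.prime_two, Finsupp.single_eq_same, Nat.factorization_eq_zero_of_not_dvd hw2]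
    let P : Sylow 2 M := Sylow.ofCard (V.subgroupOf M) (by
      rw [Nat.card_congr (Subgroup.subgroupOfEquivOfLe hVM).toEquiv, (mem_fours.1 hV).1, hfac]; rfl)
    let P' : Sylow 2 M := Sylow.ofCard (V'.subgroupOf M) (by
      rw [Nat.card_congr (Subgroup.subgroupOfEquivOfLe hV'M).toEquiv,
        Subgroup.card_map_of_injective (MulAut.conj g).injective, (mem_fours.1 hV).1, hfac]; rfl)
    obtain ⟨k, hk⟩ := MulAction.exists_smul_eq M P' P
    have hk' : ∀ w ∈ V, (k : X) * (g * w * g⁻¹) * (k : X)⁻¹ ∈ V := fun w hw => by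
      have hm : (⟨g * w * g⁻¹, hV'M ⟨w, hw, rfl⟩⟩ : M) ∈ (P' : Subgroup M) := ⟨w, hw, rfl⟩
      have h2 : k * ⟨g * w * g⁻¹, hV'M ⟨w, hw, rfl⟩⟩ * k⁻¹ ∈ ((k • P' : Sylow 2 M) : Subgroup M) :=
        ⟨_, hm, rfl⟩
      rw [hk] at h2
      exact h2
    have hn : (k : X) * g ∈ N := by
      rw [hN, ← smul_eq_iff_mem]
      refine Subgroup.eq_of_le_of_card_ge ?_ (le_of_eq (Subgroup.card_map_of_injective (MulAut.conj _).injective).symm)
      rintro _ ⟨w, hw, rfl⟩
      show (k : X) * g * w * ((k : X) * g)⁻¹ ∈ V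
      rw [show (k : X) * g * w * ((k : X) * g)⁻¹ = (k : X) * (g * w * g⁻¹) * (k : X)⁻¹ by group]
      exact hk' w hw
    have hfix := Equiv.ext_iff.1 (show φ ⟨_, hn⟩ = 1 from by
      have hb' := Subgroup.eq_bot_of_card_eq _ h1
      exact Subgroup.mem_bot.1 (hb' ▸ ⟨_, rfl⟩)) ⟨a, haV, ha1⟩
    have h3 : (k : X) * g * a * ((k : X) * g)⁻¹ = a := congrArg Subtype.val hfix
    rw [show (k : X) * g * a * ((k : X) * g)⁻¹ = (k : X) * (g * a * g⁻¹) * (k : X)⁻¹ by group, hg,
      (commute_iff C hb).2 k.2, mul_inv_cancel_right] at h3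
    exact hba h3
  have h6 : Nat.card φ.range = 3 := by
    have := Nat.le_of_dvd (by norm_num) hd6
    have : 0 < Nat.card φ.range := Nat.card_pos
    interval_cases hc : Nat.card φ.range <;> omega
  rw [hcardN, h6]

theorem fours_facts {V : Subgroup X} (hV : V ∈ fours X) {y : X} (hy : y ∈ Subgroup.normalizer (V : Set X))
    (hyV : y ∉ V) : y ^ 3 = 1 ∧ y ≠ 1 ∧ ∀ w ∈ V, w ≠ 1 → y * w ≠ w * y := by
  classical
  have h3 : y ^ 3 ∈ V := by
    set N := Subgroup.normalizer (V : Set X)
    have hidx : (V.subgroupOf N).index = 3 := by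
      have h := Subgroup.card_mul_index (V.subgroupOf N)
      rw [Nat.card_congr (Subgroup.subgroupOfEquivOfLe Subgroup.le_normalizer).toEquiv, (mem_fours.1 hV).1,
        card_normalizer_fours C hV] at h
      omega
    haveI : (V.subgroupOf N).Normal := Subgroup.normal_subgroupOf_of_le_normalizer le_rfl
    have h := Subgroup.pow_index_mem (V.subgroupOf N) (⟨y, hy⟩ : N)
    rwa [hidx] at h
  have hy1 : y ≠ 1 := fun e => hyV (e ▸ one_mem _)
  have hfree : ∀ w ∈ V, w ≠ 1 → y * w ≠ w * y := by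
    intro w hw hw1 hc
    obtain ⟨b, hb, hb1, hbw⟩ := exists_other hV w
    obtain ⟨hels, -, h2, h3'⟩ := els_fours hV hw hb hw1 hb1 (Ne.symm hbw)
    have hwfix : y * w * y⁻¹ = w := by rw [hc, mul_inv_cancel_right]
    have hb' : y * b * y⁻¹ ∈ els V := mem_els.2 ((Subgroup.mem_normalizer_iff.1 hy b).1 hb)
    rw [hels] at hb'
    simp only [mem_insert, mem_singleton] at hb'
    have hsq : y * (y * b * y⁻¹) * y⁻¹ = b := by
      rcases hb' with e | e | e | e
      · exact absurd (conj_eq_one_iff.1 e) hb1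
      · exact absurd ((MulAut.conj y).injective (e.trans hwfix.symm)) hbw
      · rw [e, e]
      · rw [e, show y * (w * b) * y⁻¹ = (y * w * y⁻¹) * (y * b * y⁻¹) by group, hwfix, e, ← mul_assoc,
          (mem_fours.1 hV).2 w hw, one_mul]
    have h2V : y * y ∈ V := centralizer_fours C hV fun t ht => by
      have ht' : t ∈ els V := mem_els.2 ht
      rw [hels] at ht'
      simp only [mem_insert, mem_singleton] at ht'
      have hcw : y * y * w = w * (y * y) := ((show Commute y w from hc).mul_left (show Commute y w from hc)).eq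
      have hcb : y * y * b = b * (y * y) := by
        conv_rhs => rw [← hsq]
        group
      rcases ht' with rfl | rfl | rfl | rfl
      · simp
      · exact hcw
      · exact hcb
      · exact ((show Commute (y * y) w from hcw).mul_right (show Commute (y * y) b from hcb)).eq
    exact hyV (by
      have := V.mul_mem (V.inv_mem h2V) h3
      rwa [show (y * y)⁻¹ * y ^ 3 = y by group] at this)
  refine ⟨?_, hy1, hfree⟩
  by_contra h
  exact hfree _ h3 h (Commute.self_pow y 3).eq

end Cfsg.Agent.Lie.Solub
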