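import Cfsg.Agent.Lib.Classical.DicksonCentral
import Cfsg.Agent.Lib.Classical.DicksonMaxFacts
import Cfsg.Agent.Lib.Classical.DicksonFacts
import Cfsg.Agent.Lib.Classical.SLTwoSmall
import Cfsg.Agent.Lib.Classical.SLNormal
import Cfsg.Agent.Lib.Lie.Solub.OddCounts
import Cfsg.Agent.Lib.Lie.Solub.Even

/-! `PSL(2, F)` of prime degree in characteristic two or three satisfies the setups. -/

set_option autoImplicit false
set_option linter.unusedSectionVars false

namespace Cfsg.Agent.Lie.Solub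

open scoped Pointwise
open Finset Cfsg.Agent.Dickson Cfsg.Agent.PSL2Spec Cfsg.Agent.Grp.SL2

theorem alt_four_sq : (∀ a b : alternatingGroup (Fin 4), a * a = 1 → b * b = 1 → a * b * (a * b) = 1) ∧
    (univ.filter fun a : alternatingGroup (Fin 4) => a * a = 1).card = 4 := by
  decide +kernel

theorem alt_five_noncomm : ¬ ∀ a b : alternatingGroup (Fin 5), a * b = b * a := fun h =>
  (show ∃ a b : alternatingGroup (Fin 5), a * b ≠ b * a by decide +kernel).elim fun a ha => ha.elim fun b hb => hb (h a b)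

/-- The elements squaring to one in a copy of a group where they form a subgroup of order four. -/
theorem exists_four {G K : Type*} [Group G] [Group K] (H : Subgroup G) (e : H ≃* K)
    (hmul : ∀ a b : K, a * a = 1 → b * b = 1 → a * b * (a * b) = 1) (hc : Nat.card {a : K // a * a = 1} = 4) :
    ∃ V : Subgroup G, V ≤ H ∧ Nat.card V = 4 ∧ (∀ w ∈ V, w * w = 1) ∧ H ≤ Subgroup.normalizer (V : Set G) := by
  let V : Subgroup G :=
    { carrier := {x | x ∈ H ∧ x * x = 1}
      mul_mem' := fun {a b} ha hb => ⟨mul_mem ha.1 hb.1, congrArg Subtype.val (e.injective (by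
        rw [map_mul, map_mul, map_one]
        exact hmul _ _ (by rw [← map_mul, ← map_one e]; exact congrArg e (Subtype.ext ha.2))
          (by rw [← map_mul, ← map_one e]; exact congrArg e (Subtype.ext hb.2))) :
        (⟨a, ha.1⟩ * ⟨b, hb.1⟩ * (⟨a, ha.1⟩ * ⟨b, hb.1⟩) : H) = 1)⟩
      one_mem' := ⟨one_mem _, one_mul 1⟩
      inv_mem' := fun {a} ha => ⟨inv_mem ha.1, by rw [← mul_inv_rev, ha.2, inv_one]⟩ }
  have hV : ∀ x, x ∈ V ↔ x ∈ H ∧ x * x = 1 := fun x => Iff.rfl
  refine ⟨V, fun x hx => hx.1, ?_, fun w hw => hw.2, fun h hh => Subgroup.mem_normalizer_iff.2 fun x => ?_⟩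
  · rw [← hc]
    exact Nat.card_congr
      { toFun := fun x => ⟨e ⟨x.1, x.2.1⟩, by rw [← map_mul, ← map_one e]; exact congrArg e (Subtype.ext x.2.2)⟩
        invFun := fun a => ⟨(e.symm a.1 : H), (e.symm a.1).2, by
          rw [← Subgroup.coe_mul, ← map_mul, a.2, map_one, Subgroup.coe_one]⟩
        left_inv := fun x => by simp
        right_inv := fun a => by simp }
  · rw [hV, hV]
    have key : h * x * h⁻¹ * (h * x * h⁻¹) = h * (x * x) * h⁻¹ := by group
    constructor
    · rintro ⟨h1, h2⟩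
      exact ⟨mul_mem (mul_mem hh h1) (inv_mem hh), by rw [key, h2, mul_one, mul_inv_cancel]⟩
    · rintro ⟨h1, h2⟩
      rw [key, mul_inv_eq_one, mul_eq_left] at h2
      have := mul_mem (mul_mem (inv_mem hh) h1) hh
      rw [show h⁻¹ * (h * x * h⁻¹) * h = x by group] at this
      exact ⟨this, h2⟩

theorem sl_three_facts : ∀ g : Matrix.SpecialLinearGroup (Fin 2) (ZMod 3),
    (g * g = 1 ∨ g * g = -1) ↔ g ^ 4 = 1 := by decide +kernel

theorem psl_three_sq :
    (∀ a b : Matrix.ProjectiveSpecialLinearGroup (Fin 2) (ZMod 3), a * a = 1 → b * b = 1 → a * b * (a * b) = 1) ∧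
      Nat.card {a : Matrix.ProjectiveSpecialLinearGroup (Fin 2) (ZMod 3) // a * a = 1} = 4 := by
  set Q := Classical.SLTwoSmall.quatHom.range.map (proj (F := ZMod 3)) with hQ
  have hiff : ∀ a : Matrix.ProjectiveSpecialLinearGroup (Fin 2) (ZMod 3), a * a = 1 ↔ a ∈ Q := by
    intro a
    obtain ⟨x, rfl⟩ := proj_surjective a
    rw [← map_mul, proj_one_iff]
    constructor
    · intro h
      exact Subgroup.mem_map_of_mem _ ((Classical.SLTwoSmall.mem_range_iff x).2 ((sl_three_facts x).1 h))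
    · rintro ⟨y, hy, he⟩
      have hy' := (sl_three_facts y).2 ((Classical.SLTwoSmall.mem_range_iff y).1 hy)
      rcases proj_eq_iff.1 he with e | e <;> rw [e]
      · exact hy'
      · rw [neg_mul_neg]; exact hy'
  refine ⟨fun a b ha hb => (hiff _).2 (mul_mem ((hiff a).1 ha) ((hiff b).1 hb)), ?_⟩
  rw [Nat.card_congr (Equiv.subtypeEquivRight hiff)]
  have h := card_map_proj (F := ZMod 3) Classical.SLTwoSmall.quatHom.range fun z hz =>
    (Classical.SLTwoSmall.mem_range_iff z).2 ((sl_three_facts z).1 (Or.inl (by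
      rcases hz with rfl | rfl <;> simp)))
  rw [Classical.SLTwoSmall.card_range, show del (ZMod 3) = 2 by decide] at h
  rw [← hQ] at h
  show Nat.card Q = 4
  omega

variable {F : Type*} [Field F] [Fintype F]

local notation "PSL₂" => Matrix.ProjectiveSpecialLinearGroup (Fin 2) F

theorem charP_of_card {p n : ℕ} (hp : p.Prime) (hF : Fintype.card F = p ^ n) : CharP F p := by
  obtain ⟨r, hr⟩ := CharP.exists F
  obtain ⟨m, hrp, hm⟩ := FiniteField.card F r
  rw [hF] at hm
  have h := (Nat.prime_dvd_prime_iff_eq hrp hp).1 (hrp.dvd_of_dvd_pow (hm ▸ dvd_pow_self r m.pos.ne'))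
  exact h ▸ hr

variable (p : ℕ) [hp : Fact p.Prime] [CharP F p]

theorem psl_setup {q u v δ : ℕ} (hq : Fintype.card F = q) (hd : del F = δ) (hu : q = δ * u + 1)
    (hv : δ * v = q + 1) (hu2 : 2 ≤ u) : Setup (pslData (F := F) p) q u v δ := by
  have hδ : δ = 1 ∨ δ = 2 := by rcases del_cases F with ⟨h, -⟩ | ⟨h, -⟩ <;> omega
  have hu' : (Fintype.card F - 1) / del F = u := by
    rw [hq, hd, hu, Nat.add_sub_cancel, Nat.mul_div_cancel_left _ (by omega)]
  have hv' : (Fintype.card F + 1) / del F = v := by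
    rw [hq, hd, ← hv, Nat.mul_div_cancel_left _ (by omega)]
  have hcard : Nat.card PSL₂ = δ * (q * (u * v)) := by
    have h := card_psl (F := F)
    rw [hd, hq, show q - 1 = δ * u by omega, ← hv] at h
    refine Nat.eq_of_mul_eq_mul_right (show 0 < δ by omega) (h.trans ?_)
    ring
  refine
    { hp := hp.out, hδ := hδ, hu := hu, hv := hv, hu2 := hu2
      hv2 := by rcases hδ with rfl | rfl <;> omega
      hcop := hu' ▸ hv' ▸ tori_coprime (F := F)
      card := hcard
      card_uni := fun {a} ha hap => ⟨(card_tor_uni p ha hap).trans hq, ?_⟩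
      card_semi := fun {a} ha hap => ⟨?_, (normalizer_tor p ha hap).1⟩
      exU := ?_
      exu := ?_
      exv := ?_ }
  · have h := card_borel p ha hap
    rw [hd, hq, show q - 1 = δ * u by omega] at h
    exact Nat.eq_of_mul_eq_mul_right (show 0 < δ by omega) (h.trans (by ring))
  · rw [← hu', ← hv']
    exact card_tor_semi p ha hap
  · obtain ⟨x, hx⟩ := exists_prime_orderOf_dvd_card' (G := PSL₂) p (by
      rw [hcard]
      exact dvd_mul_of_dvd_right (dvd_mul_of_dvd_left (hq ▸ dvd_card_field p (F := F)) _) _)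
    exact ⟨x, fun e => by rw [e, orderOf_one] at hx; exact hp.out.one_lt.ne hx, by rw [← hx]; exact pow_orderOf_eq_one x⟩
  · rw [← hu']
    exact exists_tor_minus p (by rw [hu']; exact hu2)
  · rw [← hv']
    exact exists_tor_plus p

/-- In prime degree over two or three the solvable subgroups are as required. -/
theorem psl_setup' {n q u v δ : ℕ} (hn : n.Prime) (h23 : p = 2 ∨ p = 3) (hq : Fintype.card F = q)
    (hqn : q = p ^ n) (C : Setup (pslData (F := F) p) q u v δ) (h8 : p = 3 → δ = 2 ∧ ¬ 4 ∣ q * u * v) :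
    Setup' (pslData (F := F) p) q u v δ := by
  refine { C with hsolv := fun H hH hne => ?_ }
  have hnd : ∀ {m}, m = 12 ∨ m = 24 → ¬ (¬ p ∣ m) := fun hm h => by
    rcases h23 with rfl | rfl <;> rcases hm with rfl | rfl <;> norm_num at h
  have htop : H ≠ ⊤ := by
    rintro rfl
    haveI hsolv : Group.IsSolvable PSL₂ := by
      haveI := hH
      exact Group.isSolvable_of_isSolvable_injective (f := (Subgroup.topEquiv (G := PSL₂)).symm.toMonoidHom)
        Subgroup.topEquiv.symm.injective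
    have hq4 : 4 ≤ Fintype.card F := by
      rw [hq, hqn]
      exact le_trans (by rcases h23 with rfl | rfl <;> norm_num) (Nat.pow_le_pow_right (by omega) hn.two_le)
    haveI := Classical.PSL_isSimple (F := F) (n := 2) le_rfl fun _ => hq4
    obtain ⟨a, ha, hap⟩ := C.exU
    have hT : (pslData (F := F) p).T a = ⊤ := (Subgroup.eq_top_iff' _).2 fun g =>
      (pslData (F := F) p).uni_cent ha hap ((IsSimpleGroup.comm_iff_isSolvable (G := PSL₂)).2 hsolv g a)
    have h := (C.card_uni ha hap).1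
    rw [hT, Subgroup.card_top, C.card] at h
    have hu := C.hu2
    have hv := C.hv2
    have h2 : q * 4 ≤ δ * (q * (u * v)) := by
      calc q * 4 ≤ q * (u * v) := Nat.mul_le_mul_left q (Nat.mul_le_mul hu hv)
        _ ≤ δ * (q * (u * v)) := Nat.le_mul_of_pos_left _ (by have := C.hδ; omega)
    haveI : Fintype PSL₂ := Fintype.ofFinite _
    have := one_lt_q C
    omega
  rcases dickson p H with h | ⟨a, ha, ha1, hap, h⟩ | ⟨a, ha, ha1, hap, -, h, -⟩ | ⟨a, ha, ha1, hap, h⟩ |
    ⟨hc, iso, hp'⟩ | ⟨hc, -, hp'⟩ | ⟨-, iso, -⟩ | h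
  · exact absurd h hne
  · exact Or.inl ⟨a, ha1, h.trans Subgroup.le_normalizer⟩
  · exact Or.inl ⟨a, ha1, h⟩
  · exact Or.inl ⟨a, ha1, h⟩
  · have hp3 : p = 3 := hp'.resolve_left (hnd (Or.inl hc))
    refine Or.inr ⟨(h8 hp3).1, hp3, hc, ?_⟩
    obtain ⟨e⟩ := iso
    refine exists_four H e alt_four_sq.1 ?_
    rw [Nat.card_eq_fintype_card, Fintype.card_subtype]
    exact alt_four_sq.2
  · exact absurd hp' (hnd (Or.inr hc))
  · obtain ⟨e⟩ := iso
    exfalso
    haveI := alternatingGroup.isSimpleGroup_five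
    haveI := hH
    exact alt_five_noncomm (IsSimpleGroup.comm_iff_isSolvable.2
      (Group.isSolvable_of_isSolvable_injective (f := e.symm.toMonoidHom) e.symm.injective))
  · obtain ⟨K, iF, iK, m, h3, hm, hiso⟩ := h.nonempty
    rw [hq, hqn] at hm
    obtain ⟨a, -, ha⟩ := (Nat.dvd_prime_pow hp.out).1 (hm ▸ dvd_pow_self (Fintype.card K) (by
      rintro rfl
      rw [pow_zero] at hm
      exact absurd hm.symm (Nat.one_lt_pow hn.ne_zero hp.out.one_lt).ne'))
    have ham : a * m = n := Nat.pow_right_injective hp.out.two_le (by simp only [pow_mul, ← ha]; exact hm)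
    rcases hn.eq_one_or_self_of_dvd a (ham ▸ dvd_mul_right a m) with rfl | rfl
    · rw [pow_one] at ha
      have hp3 : p = 3 := by omega
      obtain ⟨hδ, h4⟩ := h8 hp3
      rcases hiso with ⟨⟨e⟩⟩ | ⟨⟨e⟩⟩
      · have hc : Nat.card H = 12 := by
          have h := card_psl (F := K)
          rw [Nat.card_congr e.toEquiv]
          rw [ha, show del K = 2 by rw [del, ha, hp3]; decide, hp3] at h
          omega
        refine Or.inr ⟨hδ, hp3, hc, ?_⟩
        haveI : Fact (Nat.Prime 3) := ⟨Nat.prime_three⟩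
        obtain ⟨i⟩ := nonempty_psl_congr (FiniteField.ringEquivOfCardEq (K := K) (K' := ZMod 3) (by
          rw [ha, hp3, ZMod.card]))
        exact exists_four H (e.trans i) psl_three_sq.1 psl_three_sq.2
      · exfalso
        have h24 : 24 ∣ Nat.card PSL₂ := by
          have h := H.card_subgroup_dvd_card
          rwa [Nat.card_congr e.toEquiv, card_pgl, ha, hp3] at h
        rw [C.card, hδ, ← mul_assoc q] at h24
        exact h4 ((dvd_mul_left 4 3).trans (Nat.dvd_of_mul_dvd_mul_left (show 0 < 2 by norm_num)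
          (show 2 * 12 ∣ 2 * (q * u * v) from h24)))
    · exfalso
      have hKq : Fintype.card K = Fintype.card F := by rw [ha, hq, hqn]
      refine htop (Subgroup.eq_top_of_le_card H ?_)
      rcases hiso with ⟨⟨e⟩⟩ | ⟨⟨e⟩⟩
      · rw [Nat.card_congr e.toEquiv]
        have h1 := card_psl (F := F)
        have h2 := card_psl (F := K)
        rw [show del K = del F by rw [del, del, hKq], hKq, ← h1] at h2
        exact le_of_eq (Nat.eq_of_mul_eq_mul_right (Nat.gcd_pos_of_pos_left _ two_pos) h2).symm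
      · rw [Nat.card_congr e.toEquiv, card_pgl, hKq, ← card_psl]
        exact Nat.le_mul_of_pos_right _ (Nat.gcd_pos_of_pos_left _ two_pos)

omit hp in
theorem setup_two {n : ℕ} [CharP F 2] (hn : n.Prime) (hF : Fintype.card F = 2 ^ n) :
    Setup' (pslData (F := F) 2) (2 ^ n) (2 ^ n - 1) (2 ^ n + 1) 1 := by
  have h4 : 4 ≤ 2 ^ n := le_trans (by norm_num) (Nat.pow_le_pow_right two_pos hn.two_le)
  have heven : Even (Fintype.card F) := hF ▸ (Nat.even_pow.2 ⟨even_two, hn.ne_zero⟩)
  have hd : del F = 1 := by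
    rcases del_cases F with ⟨h, -⟩ | ⟨-, ho⟩
    · exact h
    · exact absurd heven (Nat.not_even_iff_odd.2 ho)
  exact psl_setup' 2 hn (Or.inl rfl) hF rfl (psl_setup 2 hF hd (by omega) (by omega) (by omega))
    fun h => absurd h (by norm_num)

omit hp in
theorem setup_three {n : ℕ} [CharP F 3] (hn : n.Prime) (hodd : Odd n) (hF : Fintype.card F = 3 ^ n) :
    Setup3 (pslData (F := F) 3) (3 ^ n) ((3 ^ n - 1) / 2) ((3 ^ n + 1) / 2) := by
  haveI : Fact (Nat.Prime 3) := ⟨Nat.prime_three⟩
  obtain ⟨k, rfl⟩ := hodd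
  have h8 : 3 ^ (2 * k + 1) % 8 = 3 := by rw [pow_succ, pow_mul, Nat.mul_mod, Nat.pow_mod]; norm_num
  have h27 : 27 ≤ 3 ^ (2 * k + 1) :=
    le_trans (by norm_num) (Nat.pow_le_pow_right three_pos (show 3 ≤ 2 * k + 1 by have := hn.two_le; omega))
  have hodd' : Odd (Fintype.card F) := hF ▸ Odd.pow (by decide)
  have hd : del F = 2 := by
    rcases del_cases F with ⟨-, he⟩ | ⟨h, -⟩
    · exact absurd hodd' (Nat.not_odd_iff_even.2 he)
    · exact h
  generalize hq : 3 ^ (2 * k + 1) = q at h8 h27 hF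
  have huo : ¬ 2 ∣ (q - 1) / 2 := by omega
  have hv4 : ¬ 4 ∣ (q + 1) / 2 := by omega
  have C := psl_setup 3 hF hd (u := (q - 1) / 2) (v := (q + 1) / 2) (by omega) (by omega) (by omega)
  refine { toSetup' := psl_setup' 3 hn (Or.inr rfl) hF hq.symm C fun _ => ⟨rfl, fun h => hv4 ?_⟩
           huo := huo, hv4 := hv4 }
  exact Nat.Coprime.dvd_of_dvd_mul_left (Nat.Coprime.pow_left 2 (Nat.prime_two.coprime_iff_not_dvd.2 fun h' =>
    (Nat.prime_two.dvd_mul.1 h').elim (by omega) huo)) (show 2 ^ 2 ∣ _ from h)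

end Cfsg.Agent.Lie.Solub
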